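import Cfsg.Agent.Lib.LocalEven.SFreeOffender.Units
import Mathlib.Algebra.BigOperators.Group.Finset.Basic

/-!
Units coming from a component.
-/

set_option autoImplicit false
set_option linter.style.haveILetI false
set_option linter.unusedSectionVars false

namespace CfsgLib.LocalEven.SFreeOffender

open Subgroup CfsgLib.Components
open scoped commutatorElement

variable {G : Type*} [Group G] [Finite G]

/-- The product of the conjugates of an element of a component over a set of representatives. -/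
theorem diagonal {A D K : Subgroup G} {v : G} {r : ℕ} (hA : Cfsg.IsElementaryAbelian 2 A) (hDA : D ≤ A)
    (hK : Cfsg.IsComponent K) (hD : ∀ d ∈ D, d ∈ normalizer (K : Set G) → d = 1) (hv : v ∈ K)
    (hvr : ∃ k, v ^ r ^ k = 1) :
    ∃ y : G, (∃ k, y ^ r ^ k = 1) ∧ v⁻¹ * y ∈ centralizer (K : Set G) ∧
      (∀ d ∈ D, d * y = y * d) ∧ (∀ g ∈ A, g * v * g⁻¹ = v → g * y = y * g) ∧
      (∀ g ∈ A, g * v * g⁻¹ = v⁻¹ → g * y * g⁻¹ = y⁻¹) ∧
      (∀ g ∈ A, (∀ d ∈ D, g * d ∉ normalizer (K : Set G)) →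
        g * y * g⁻¹ ∈ centralizer (K : Set G) ∧ Commute y (g * y * g⁻¹)) := by
  classical
  haveI := hA.1
  letI : Fintype D := Fintype.ofFinite D
  let f : D → G := fun d => (d : G) * v * (d : G)⁻¹
  have hmem : ∀ d : D, f d ∈ K.map (MulAut.conj (d : G)).toMonoidHom := fun d => ⟨v, hv, rfl⟩
  have hsep : ∀ g : G, g ∉ normalizer (K : Set G) →
      K.map (MulAut.conj g).toMonoidHom ≤ centralizer (K : Set G) := fun g hg =>
    IsComponent.le_centralizer_of_ne (IsComponent.conj hK g) hK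
      fun h => hg (Subgroup.mem_normalizer_iff_map_conj_eq.mpr h)
  have hcomm2 : ∀ g g' : G, g' ⁻¹ * g ∉ normalizer (K : Set G) →
      Commute (g * v * g⁻¹) (g' * v * g'⁻¹) := by
    intro g g' h
    have h1 : Commute ((g'⁻¹ * g) * v * (g'⁻¹ * g)⁻¹) v :=
      (mem_centralizer_iff.1 (hsep _ h ⟨v, hv, rfl⟩) v hv).symm
    have h2 := h1.map (MulAut.conj g').toMonoidHom
    simpa [mul_assoc] using h2
  have hcomm : ∀ d d' : D, f d * f d' = f d' * f d := by
    intro d d'
    by_cases h : d = d'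
    · rw [h]
    · exact (hcomm2 _ _ fun hn => h (Subtype.ext (inv_mul_eq_one.1
        (hD _ (mul_mem (inv_mem d'.2) d.2) hn)).symm)).eq
  set S := closure (Set.range f)
  letI : CommGroup S := { (inferInstance : Group S) with
    mul_comm := (isMulCommutative_closure (k := Set.range f) (by
      rintro _ ⟨d, rfl⟩ _ ⟨d', rfl⟩; exact hcomm d d')).is_comm.comm }
  let g₀ : D → S := fun d => ⟨f d, subset_closure ⟨d, rfl⟩⟩
  set y : G := S.subtype (∏ d, g₀ d) with hy
  have hprod : ∀ g ∈ A, ∀ (e : D ≃ D) (s : ℤ), (∀ d, g * f d * g⁻¹ = f (e d) ^ s) →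
      g * y * g⁻¹ = y ^ s := by
    intro g hg e s h
    have hcl : ∀ z ∈ S, g * z * g⁻¹ ∈ S := fun z hz => by
      have hle : S ≤ S.comap (MulAut.conj g).toMonoidHom := (closure_le _).2 (by
        rintro _ ⟨d, rfl⟩
        show g * f d * g⁻¹ ∈ S
        rw [h]; exact zpow_mem (subset_closure (Set.mem_range_self _)) s)
      exact hle hz
    let ψ : S →* S := MonoidHom.mk' (fun z => ⟨g * z * g⁻¹, hcl z z.2⟩) fun a b =>
      Subtype.ext (by simp only [Subgroup.coe_mul]; group)
    have h1 : ∀ d, ψ (g₀ d) = g₀ (e d) ^ s := fun d => Subtype.ext (by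
      show g * f d * g⁻¹ = _
      rw [h]; simp [g₀])
    have h2 : ψ (∏ d, g₀ d) = (∏ d, g₀ d) ^ s := by
      rw [map_prod, Finset.prod_congr rfl fun d _ => h1 d, ← Finset.prod_zpow]
      exact Fintype.prod_equiv e _ _ fun d => rfl
    exact congrArg Subtype.val h2 |>.trans (by simp [hy])
  obtain ⟨k, hk⟩ := hvr
  refine ⟨y, ⟨k, ?_⟩, ?_, fun d hd => ?_, fun g hg hgv => ?_, fun g hg hgv => ?_, fun g hg hgD => ?_⟩
  · rw [hy, ← map_pow, ← Finset.prod_pow]
    rw [Finset.prod_eq_one fun d _ => ?_, map_one]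
    refine Subtype.ext ?_
    simp only [SubgroupClass.coe_pow, Subgroup.coe_one, g₀, f]
    rw [conj_pow, hk, mul_one, mul_inv_cancel]
  · rw [hy, ← Finset.mul_prod_erase Finset.univ g₀ (Finset.mem_univ 1), map_mul]
    have h1 : S.subtype (g₀ 1) = v := by simp [g₀, f]
    rw [h1, inv_mul_cancel_left]
    rw [← mem_comap (f := S.subtype)]
    refine prod_mem fun d hd => ?_
    exact hsep _ (fun hn => (Finset.mem_erase.1 hd).1 (Subtype.ext (hD _ d.2 hn))) (hmem d)
  · have := hprod d (hDA hd) (Equiv.mulLeft (⟨d, hd⟩ : D)) 1 (fun d' => by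
      simp only [zpow_one, f, Equiv.coe_mulLeft, Subgroup.coe_mul]; group)
    rw [zpow_one] at this
    exact mul_inv_eq_iff_eq_mul.1 this
  · have := hprod g hg (Equiv.refl D) 1 (fun d => by
      have hgd : Commute g (d : G) := setLike_mul_comm hg (hDA d.2)
      simp only [zpow_one, f, Equiv.refl_apply]
      calc g * ((d : G) * v * (d : G)⁻¹) * g⁻¹ = (g * d) * v * (g * d)⁻¹ := by group
        _ = (d : G) * (g * v * g⁻¹) * (d : G)⁻¹ := by rw [hgd.eq]; group
        _ = _ := by rw [hgv])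
    rw [zpow_one] at this
    exact mul_inv_eq_iff_eq_mul.1 this
  · have := hprod g hg (Equiv.refl D) (-1) (fun d => by
      have hgd : Commute g (d : G) := setLike_mul_comm hg (hDA d.2)
      simp only [zpow_neg, zpow_one, f, Equiv.refl_apply]
      calc g * ((d : G) * v * (d : G)⁻¹) * g⁻¹ = (g * d) * v * (g * d)⁻¹ := by group
        _ = (d : G) * (g * v * g⁻¹) * (d : G)⁻¹ := by rw [hgd.eq]; group
        _ = _ := by rw [hgv]; group)
    rwa [zpow_neg, zpow_one] at this
  · have hgd : ∀ d : D, g * f d * g⁻¹ = (g * d) * v * (g * d)⁻¹ := fun d => by simp only [f]; group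
    constructor
    · have : S ≤ (centralizer (K : Set G)).comap (MulAut.conj g).toMonoidHom := (closure_le _).2 (by
        rintro _ ⟨d, rfl⟩
        show g * f d * g⁻¹ ∈ centralizer (K : Set G)
        rw [hgd]
        exact hsep _ (hgD d d.2) ⟨v, hv, rfl⟩)
      exact this (∏ d, g₀ d).2
    · have h1 : S ≤ (centralizer (S : Set G)).comap (MulAut.conj g).toMonoidHom := (closure_le _).2 (by
        rintro _ ⟨d, rfl⟩
        show g * f d * g⁻¹ ∈ centralizer (S : Set G)
        rw [centralizer_closure]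
        refine mem_centralizer_iff.2 ?_
        rintro _ ⟨d', rfl⟩
        rw [hgd]
        refine (hcomm2 _ _ ?_).symm.eq
        rw [show (d' : G)⁻¹ * (g * d) = g * ((d' : G)⁻¹ * d) by
          rw [← mul_assoc, ← mul_assoc, show (d' : G)⁻¹ * g = g * (d' : G)⁻¹ from
            setLike_mul_comm (inv_mem (hDA d'.2)) hg]]
        exact hgD _ (mul_mem (inv_mem d'.2) d.2))
      exact mem_centralizer_iff.1 (h1 (∏ d, g₀ d).2) y (∏ d, g₀ d).2

/-- The action of the normaliser of a component on its simple quotient. -/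
noncomputable def quotAct (K : Subgroup G) : normalizer (K : Set G) →* MulAut (K ⧸ center K) :=
  MonoidHom.mk' (fun g => QuotientGroup.congr (center K) (center K) (normalizerMonoidHom K g)
      (characteristic_iff_map_eq.mp inferInstance _)) fun g h => by
    ext x
    obtain ⟨x, rfl⟩ := QuotientGroup.mk_surjective x
    simp [map_mul, MulAut.mul_apply]
    rfl

theorem quotAct_apply (K : Subgroup G) (g : normalizer (K : Set G)) (x : K) :
    quotAct K g (x : K ⧸ center K) = ((⟨(g : G) * x * (g : G)⁻¹,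
      (mem_normalizer_iff.1 g.2 x).1 x.2⟩ : K) : K ⧸ center K) := rfl

/-- A unit from a component, given that its quotient is good. -/
theorem hasUnit_of_component (h2 : Cfsg.pCore 2 G = ⊥) (hS : ¬ Cfsg.Involves (Equiv.Perm (Fin 3)) G)
    {A K : Subgroup G} (hA : Cfsg.IsElementaryAbelian 2 A)
    (hAF : A ≤ centralizer (Cfsg.fittingSubgroup G : Set G)) (hK : Cfsg.IsComponent K)
    (hgood : GoodSimple (K ⧸ center K)) (hAK : ¬ A ≤ centralizer (K : Set G)) : HasUnit A := by
  classical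
  haveI := hA.1
  set π := QuotientGroup.mk' (center K) with hπ
  set Z := (center K).map K.subtype with hZ
  have hZF : Z ≤ Cfsg.fittingSubgroup G := by
    refine le_fittingSubgroup_of_subnormal ?_ ?_
    · exact IsSubnormal.map_subtype_normal hK.1 inferInstance
    · haveI : IsMulCommutative Z := ⟨⟨fun a b => Subtype.ext (by
        obtain ⟨a', ha', ha⟩ := a.2
        obtain ⟨b', hb', hb⟩ := b.2
        simp only [Subgroup.coe_mul, ← ha, ← hb, ← map_mul]
        rw [(mem_center_iff.1 ha' b').symm])⟩⟩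
      exact isNilpotent_of_isMulCommutative Z
  have hZ2 : ∀ z ∈ Z, z * z = 1 → z = 1 := by
    intro z hz hzz
    by_contra hz1
    have h := orderOf_eq_prime (p := 2) (by rw [pow_two, hzz]) hz1
    exact Nat.not_even_iff_odd.2 (odd_card_fitting h2)
      (even_iff_two_dvd.2 (h ▸ orderOf_dvd_natCard _ (hZF hz)))
  have hA2 : ∀ g ∈ A, g * g = 1 := fun g hg => by rw [← pow_two]; exact hA.2 g hg
  have hfixed : ∀ g ∈ A, ∀ (hg : g ∈ normalizer (K : Set G)) (w : K),
      quotAct K ⟨g, hg⟩ (π w) = π w → g * w * g⁻¹ = (w : G) := by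
    intro g hgA hg w h
    obtain ⟨z, hz, hzw⟩ : ∃ z ∈ center K, w * z = ⟨g * w * g⁻¹, (mem_normalizer_iff.1 hg w).1 w.2⟩ :=
      (QuotientGroup.mk'_eq_mk' _).1 h.symm
    have hzw' : g * w * g⁻¹ = (w : G) * z := (congrArg Subtype.val hzw).symm
    have hzg : g * (z : G) * g⁻¹ = z := by
      rw [show g * (z : G) = z * g from
        (mem_centralizer_iff.1 (hAF hgA) z (hZF ⟨z, hz, rfl⟩)).symm, mul_inv_cancel_right]
    have h1 : (w : G) = (w : G) * z * z := by
      calc (w : G) = (g * g) * w * (g * g)⁻¹ := by rw [hA2 g hgA]; group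
        _ = g * (g * w * g⁻¹) * g⁻¹ := by group
        _ = g * ((w : G) * z) * g⁻¹ := by rw [hzw']
        _ = (g * w * g⁻¹) * (g * z * g⁻¹) := by group
        _ = _ := by rw [hzw', hzg]
    have hz1 : (z : G) = 1 := hZ2 _ ⟨z, hz, rfl⟩
      (mul_left_cancel (a := (w : G)) (by rw [mul_one, ← mul_assoc]; exact h1.symm))
    rw [hzw', hz1, mul_one]
  have hcent : ∀ w : K, (w : G) ∈ centralizer (K : Set G) → π w = 1 := fun w hw =>
    (QuotientGroup.eq_one_iff w).2 (mem_center_iff.2 fun k => Subtype.ext (mem_centralizer_iff.1 hw k k.2))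
  set AK := A ⊓ normalizer (K : Set G) with hAKdef
  set ρ : AK →* MulAut (K ⧸ center K) := (quotAct K).comp (inclusion inf_le_right) with hρ
  set B := ρ.range with hB
  have hBe : Cfsg.IsElementaryAbelian 2 B := by
    refine ⟨⟨⟨?_⟩⟩, ?_⟩
    · rintro ⟨_, a, rfl⟩ ⟨_, b, rfl⟩
      refine Subtype.ext ?_
      simp only [Subgroup.coe_mul, ← map_mul]
      congr 1
      exact Subtype.ext (setLike_mul_comm a.2.1 b.2.1)
    · rintro _ ⟨a, rfl⟩
      rw [← map_pow, show a ^ 2 = 1 from Subtype.ext (hA.2 a a.2.1), map_one]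
  have hnob : ∀ b ∈ B, ∀ y : K ⧸ center K, orderOf y = 3 → b y ≠ y⁻¹ := by
    rintro _ ⟨a, rfl⟩ y hy hbad
    obtain ⟨w, rfl⟩ := QuotientGroup.mk'_surjective (center K) y
    set e : K →* K := (normalizerMonoidHom K ⟨a, a.2.2⟩).toMonoidHom
    have hee : ∀ x, e (e x) = x := fun x => Subtype.ext (by
      show (a : G) * ((a : G) * x * (a : G)⁻¹) * (a : G)⁻¹ = x
      calc _ = ((a : G) * a) * x * ((a : G) * a)⁻¹ := by group
        _ = _ := by rw [hA2 a a.2.1]; group)
    set u := w⁻¹ * e w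
    have hπe : π (e w) = (π w)⁻¹ := hbad
    have hu : orderOf (π u) = 3 := by
      rw [map_mul, map_inv, hπe, ← pow_two, inv_pow, orderOf_inv]
      rw [orderOf_pow' _ two_ne_zero, hy]
      rfl
    obtain ⟨j, hj, hj1⟩ := exists_ppart (G := K) π u Nat.prime_three hu
    have heu : e u = u⁻¹ := by simp only [u, map_mul, map_inv, hee, mul_inv_rev, inv_inv]
    have h3 : (a : G) * ((u ^ j : K) : G) * (a : G)⁻¹ = ((u ^ j : K) : G)⁻¹ := by
      show ((e (u ^ j) : K) : G) = _
      rw [map_pow, heu, inv_pow, Subgroup.coe_inv]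
    refine hj1 ?_
    rw [show u ^ j = 1 from Subtype.ext (not_inverted_three hS (hA2 a a.2.1)
      (by rw [orderOf_coe]; exact hj) h3), map_one]
  by_cases hB1 : B = ⊥
  · obtain ⟨⟨r, hr, hr5, hrd⟩, -⟩ := hgood
    haveI : Fact r.Prime := ⟨hr⟩
    obtain ⟨ybar, hybar⟩ := exists_prime_orderOf_dvd_card' r hrd
    obtain ⟨w, rfl⟩ := QuotientGroup.mk'_surjective (center K) ybar
    obtain ⟨j, ⟨k, hk⟩, hj1⟩ := exists_ppart (G := K) π w hr hybar
    set v := w ^ j
    have hfix : ∀ g ∈ AK, ∀ u : K, g * u * g⁻¹ = (u : G) := fun g hg u =>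
      hfixed g hg.1 hg.2 u (by
        have : ρ ⟨g, hg⟩ ∈ B := ⟨_, rfl⟩
        rw [hB1, mem_bot] at this
        exact DFunLike.congr_fun this (π u))
    obtain ⟨a, haA, haN⟩ : ∃ a ∈ A, a ∉ normalizer (K : Set G) := by
      by_contra hcon
      push Not at hcon
      refine hAK fun g hg => mem_centralizer_iff.2 fun u hu => ?_
      have := hfix g (mem_inf.2 ⟨hg, hcon g hg⟩) ⟨u, hu⟩
      exact (mul_inv_eq_iff_eq_mul.1 this).symm
    have hB' : AK ⊔ zpowers a ≤ A := sup_le inf_le_left (zpowers_le.2 haA)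
    obtain ⟨D, hDA, hdisj, hsup⟩ := exists_complement hA hB'
    have hD : ∀ d ∈ D, d ∈ normalizer (K : Set G) → d = 1 := fun d hd hn =>
      mem_bot.1 (hdisj ▸ mem_inf.2 ⟨hd, mem_sup_left (mem_inf.2 ⟨hDA hd, hn⟩)⟩)
    have hDa : ∀ d ∈ D, a * d ∉ normalizer (K : Set G) := fun d hd hn => by
      have h1 : d ∈ AK ⊔ zpowers a := by
        rw [show d = a⁻¹ * (a * d) by group]
        exact mul_mem (mem_sup_right (inv_mem (mem_zpowers a)))
          (mem_sup_left (mem_inf.2 ⟨mul_mem haA (hDA hd), hn⟩))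
      have hd1 := mem_bot.1 (hdisj ▸ mem_inf.2 ⟨hd, h1⟩)
      rw [hd1, mul_one] at hn
      exact haN hn
    obtain ⟨y, ⟨i, hi⟩, hyv, hyD, hyfix, -, hya⟩ := diagonal hA hDA hK hD v.2 ⟨k, by
      rw [← SubgroupClass.coe_pow, ← hk, pow_orderOf_eq_one, Subgroup.coe_one]⟩ (r := r)
    obtain ⟨hyc, hycomm⟩ := hya a haA hDa
    set x := y * (a * y * a⁻¹)⁻¹ with hx
    have ha2 := hA2 a haA
    have hai : a⁻¹ = a := inv_eq_of_mul_eq_one_right ha2
    have hinv : a * x * a⁻¹ = x⁻¹ := by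
      calc a * x * a⁻¹ = (a * y * a⁻¹) * ((a * a) * y * (a * a)⁻¹)⁻¹ := by rw [hx]; group
        _ = (a * y * a⁻¹) * y⁻¹ := by rw [ha2]; group
        _ = x⁻¹ := by rw [hx]; group
    have hx1 : x ≠ 1 := by
      intro h
      rw [hx, mul_inv_eq_one] at h
      refine hj1 (hcent v ?_)
      rw [show (v : G) = y * ((v : G)⁻¹ * y)⁻¹ by group]
      exact mul_mem (h ▸ hyc) (inv_mem hyv)
    have hxr : ∃ k, orderOf x = r ^ k := by
      have h1 : x ^ r ^ i = 1 := by
        rw [hx, hycomm.inv_right.mul_pow, hi, inv_pow, conj_pow, hi, one_mul, mul_one, mul_inv_cancel, inv_one]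
      obtain ⟨m, -, hm⟩ := (Nat.dvd_prime_pow hr).1 (orderOf_dvd_of_pow_eq_one h1)
      exact ⟨m, hm⟩
    refine hasUnit_of_pow (E := AK ⊔ D) (sup_le inf_le_left hDA) haA ?_ hr hr5 hxr hx1 hinv ?_ (Or.inl ?_)
    · intro ha
      obtain ⟨p, hp, q, hq, rfl⟩ := exists_mul_of_mem_sup (fun p (hp : p ∈ AK) => centralizer_le_normalizer _
        (mem_centralizer_iff.2 fun q hq => setLike_mul_comm (hDA hq) hp.1)) ha
      refine hDa q⁻¹ (inv_mem hq) ?_
      rw [mul_inv_cancel_right]; exact hp.2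
    · intro h hh
      have hle : AK ⊔ D ≤ centralizer {y} := sup_le
        (fun g hg => mem_centralizer_singleton_iff.2 (hyfix g hg.1 (hfix g hg v)))
        (fun g hg => mem_centralizer_singleton_iff.2 (hyD g hg))
      have h1 : Commute h y := mem_centralizer_singleton_iff.1 (hle hh)
      have h2 : Commute h a := setLike_mul_comm ((sup_le inf_le_left hDA : AK ⊔ D ≤ A) hh) haA
      exact (h1.mul_right ((h2.mul_right h1).mul_right h2.inv_right).inv_right).eq
    · rw [Subgroup.relIndex, index_eq_two_iff]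
      refine ⟨⟨a, haA⟩, fun b => ?_⟩
      have hnd : a ∉ AK ⊔ D := by
        intro ha
        obtain ⟨p, hp, q, hq, rfl⟩ := exists_mul_of_mem_sup (fun p (hp : p ∈ AK) => centralizer_le_normalizer _
          (mem_centralizer_iff.2 fun q hq => setLike_mul_comm (hDA hq) hp.1)) ha
        refine hDa q⁻¹ (inv_mem hq) ?_
        rw [mul_inv_cancel_right]; exact hp.2
      have hb : (b : G) ∈ zpowers a ⊔ (AK ⊔ D) := by
        rw [show zpowers a ⊔ (AK ⊔ D) = D ⊔ (AK ⊔ zpowers a) by ac_rfl, hsup]; exact b.2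
      obtain ⟨z, hz, h, hh, hzh⟩ := exists_mul_of_mem_sup (fun p hp => centralizer_le_normalizer _
        (mem_centralizer_iff.2 fun q hq => setLike_mul_comm
          ((sup_le inf_le_left hDA : AK ⊔ D ≤ A) hq) (zpowers_le.2 haA hp))) hb
      obtain ⟨i, rfl⟩ := mem_zpowers_iff.1 hz
      have hah : a * h = h * a := setLike_mul_comm haA ((sup_le inf_le_left hDA : AK ⊔ D ≤ A) hh)
      simp only [mem_subgroupOf, Subgroup.coe_mul, ← hzh]
      rcases Int.even_or_odd i with ⟨c, rfl⟩ | ⟨c, rfl⟩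
      · rw [← two_mul, _root_.zpow_mul, zpow_two, ha2, _root_.one_zpow, one_mul]
        exact Or.inr ⟨hh, fun h1 => hnd (((AK ⊔ D).mul_mem_cancel_left hh).1 h1)⟩
      · rw [_root_.zpow_add, _root_.zpow_mul, zpow_two, ha2, _root_.one_zpow, one_mul, zpow_one, hah,
          mul_assoc, ha2, mul_one]
        exact Or.inl ⟨hh, fun h1 => hnd (((AK ⊔ D).mul_mem_cancel_left hh).1 h1)⟩
  · obtain ⟨B', b, xbar, r, hB'B, ⟨a, rfl⟩, hbn, hr, hr5, hxbar, hbx, hfixB, hidx⟩ := hgood.2 B hBe hB1 hnob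
    obtain ⟨w, rfl⟩ := QuotientGroup.mk'_surjective (center K) xbar
    set e : K →* K := (normalizerMonoidHom K ⟨a, a.2.2⟩).toMonoidHom
    have ha2 := hA2 a a.2.1
    have hee : ∀ x, e (e x) = x := fun x => Subtype.ext (by
      show (a : G) * ((a : G) * x * (a : G)⁻¹) * (a : G)⁻¹ = x
      calc _ = ((a : G) * a) * x * ((a : G) * a)⁻¹ := by group
        _ = _ := by rw [ha2]; group)
    set u := w⁻¹ * e w
    have hπe : π (e w) = (π w)⁻¹ := hbx
    have hu : orderOf (π u) = r := by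
      rw [map_mul, map_inv, hπe, ← pow_two, inv_pow, orderOf_inv, orderOf_pow' _ two_ne_zero, hxbar,
        Nat.Coprime.gcd_eq_one ((Nat.coprime_primes hr Nat.prime_two).2 (by omega)), Nat.div_one]
    obtain ⟨j, ⟨k, hk⟩, hj1⟩ := exists_ppart (G := K) π u hr hu
    have heu : e u = u⁻¹ := by simp only [u, map_mul, map_inv, hee, mul_inv_rev, inv_inv]
    set v := u ^ j with hv
    have hav : (a : G) * (v : G) * (a : G)⁻¹ = (v : G)⁻¹ := by
      show ((e v : K) : G) = _
      rw [hv, map_pow, heu, inv_pow, Subgroup.coe_inv]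
    set E0 := (B'.comap ρ).map AK.subtype with hE0
    have hfix : ∀ g ∈ E0, g * v * g⁻¹ = (v : G) := by
      rintro _ ⟨g, hg, rfl⟩
      refine hfixed g g.2.1 g.2.2 v ?_
      show ρ g (π v) = π v
      have hu' : π u = (π w)⁻¹ * (π w)⁻¹ := by rw [map_mul, map_inv, hπe]
      rw [hv, map_pow, map_pow, hu', map_mul, map_inv, hfixB _ hg]
    obtain ⟨D, hDA, hdisj, hsup⟩ := exists_complement hA (inf_le_left : AK ≤ A)
    have hD : ∀ d ∈ D, d ∈ normalizer (K : Set G) → d = 1 := fun d hd hn =>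
      mem_bot.1 (hdisj ▸ mem_inf.2 ⟨hd, mem_inf.2 ⟨hDA hd, hn⟩⟩)
    obtain ⟨y, ⟨i, hi⟩, hyv, hyD, hyfix, hyinv, -⟩ := diagonal hA hDA hK hD v.2 ⟨k, by
      rw [← SubgroupClass.coe_pow, ← hk, pow_orderOf_eq_one, Subgroup.coe_one]⟩ (r := r)
    have hE0AK : E0 ≤ AK := map_subtype_le _
    have hEA : E0 ⊔ D ≤ A := sup_le (hE0AK.trans inf_le_left) hDA
    have hn : E0 ≤ normalizer (D : Set G) := fun p hp => centralizer_le_normalizer _
      (mem_centralizer_iff.2 fun q hq => setLike_mul_comm (hDA hq) (hE0AK hp).1)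
    have hint : ∀ g ∈ AK, g ∈ E0 ⊔ D → g ∈ E0 := by
      intro g hg hgE
      obtain ⟨p, hp, q, hq, rfl⟩ := exists_mul_of_mem_sup hn hgE
      have hq1 : q = 1 := hD q hq (((normalizer (K : Set G)).mul_mem_cancel_left (hE0AK hp).2).1 hg.2)
      rw [hq1, mul_one]; exact hp
    refine hasUnit_of_pow (E := E0 ⊔ D) hEA a.2.1 ?_ hr hr5 ?_ ?_ (hyinv a a.2.1 hav) ?_ ?_
    · intro h
      obtain ⟨g, hg, hga⟩ := hint a a.2 h
      exact hbn (by rwa [show g = a from Subtype.ext hga] at hg)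
    · obtain ⟨m, -, hm⟩ := (Nat.dvd_prime_pow hr).1 (orderOf_dvd_of_pow_eq_one hi)
      exact ⟨m, hm⟩
    · intro h
      refine hj1 (hcent v ?_)
      rw [h, mul_one] at hyv
      simpa using inv_mem hyv
    · intro h hh
      exact mem_centralizer_singleton_iff.1 ((sup_le
        (fun g hg => mem_centralizer_singleton_iff.2 (hyfix g (hE0AK hg).1 (hfix g hg)))
        (fun g hg => mem_centralizer_singleton_iff.2 (hyD g hg)) : E0 ⊔ D ≤ centralizer {y}) hh)
    · have hidx' : B'.relIndex B = (E0 ⊔ D).relIndex A := by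
        have h1 : B'.relIndex B = E0.relIndex AK := by
          rw [hB, ← index_comap, hE0, Subgroup.relIndex, subgroupOf, comap_map_eq_self_of_injective AK.subtype_injective]
        rw [h1]
        have h2 : ((E0 ⊔ D) ⊓ AK) = E0 :=
          le_antisymm (fun g hg => hint g hg.2 hg.1) (le_inf le_sup_left hE0AK)
        have h3 : (E0 ⊔ D).relIndex AK = (E0 ⊔ D).relIndex A := by
          rw [Subgroup.relIndex, Subgroup.relIndex]
          refine Nat.card_congr (Equiv.ofBijective (quotientSubgroupOfEmbeddingOfLE _ inf_le_left)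
            ⟨(quotientSubgroupOfEmbeddingOfLE _ inf_le_left).injective, fun q => ?_⟩)
          obtain ⟨⟨b, hb⟩, rfl⟩ := QuotientGroup.mk_surjective q
          obtain ⟨p, hp, q, hq, rfl⟩ := exists_mul_of_mem_sup
            (fun p hp => centralizer_le_normalizer _ (mem_centralizer_iff.2
              fun q hq => setLike_mul_comm (inf_le_left (b := normalizer (K : Set G)) hq) (hDA hp)))
            (hsup ▸ hb)
          refine ⟨QuotientGroup.mk ⟨q, hq⟩, ?_⟩
          rw [quotientSubgroupOfEmbeddingOfLE_apply_mk, QuotientGroup.eq]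
          simp only [mem_subgroupOf, Subgroup.coe_mul, Subgroup.coe_inv, coe_inclusion]
          rw [setLike_mul_comm (hDA hp) hq.1, inv_mul_cancel_left]
          exact mem_sup_right hp
        rw [← h3, ← inf_relIndex_right (E0 ⊔ D) AK, h2]
      rwa [← hidx']

end CfsgLib.LocalEven.SFreeOffender
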