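import Cfsg.Agent.Lib.LocalEven.SFreeOffender.Units
import Cfsg.Agent.Lib.KnownC.AutPSL.Outer
import Cfsg.Agent.Lib.KnownC.AutPSL.Balance.Field

/-!
The groups `PSL₂(3^(2n+1))` provide units.
-/

set_option autoImplicit false
set_option linter.style.haveILetI false

namespace CfsgLib.LocalEven.SFreeOffender

open Matrix CfsgLib.KnownC.AutPSL

universe u

variable {F : Type u} [Field F]

local notation "SL2F" => Matrix.SpecialLinearGroup (Fin 2) F
local notation "PSL2F" => Matrix.ProjectiveSpecialLinearGroup (Fin 2) F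
local notation "M2F" => Matrix (Fin 2) (Fin 2) F

/-- The automorphism of `PSL₂` given by conjugation with an element of `SL₂`. -/
private def cj (J : SL2F) : MulAut PSL2F := MulAut.conj (QuotientGroup.mk J : PSL2F)

private theorem cj_mk (J h : SL2F) :
    cj J (QuotientGroup.mk h : PSL2F) = (QuotientGroup.mk (J * h * J⁻¹) : PSL2F) := rfl

private theorem cj_mul (J K : SL2F) : cj (J * K) = cj J * cj K := by
  unfold cj; rw [QuotientGroup.mk_mul, map_mul]

private theorem cj_eq (J : SL2F) : cj J = semiAut (Matrix.SpecialLinearGroup.toGL J) (RingEquiv.refl F) :=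
  conj_mk J

private theorem cj_eq_of_smul {J K : SL2F} (c : Fˣ) (h : (K : M2F) = (c : F) • (J : M2F)) : cj K = cj J := by
  rw [cj_eq, cj_eq, ← semiAut_scl_mul c (Matrix.SpecialLinearGroup.toGL J)]
  congr 1
  refine Units.ext ?_
  rw [Units.val_mul, scl_coe, coe_toGL, coe_toGL, h, smul_mul, Matrix.one_mul]

/-- An element with square minus one has trace zero. -/
private theorem trace_zero {M : M2F} (h : M * M = -1) (hd : M.det = 1) : M 1 1 = -M 0 0 := by
  have e00 := congr_fun (congr_fun h 0) 0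
  have e01 := congr_fun (congr_fun h 0) 1
  simp [Matrix.mul_apply, Fin.sum_univ_two] at e00 e01
  rw [Matrix.det_fin_two] at hd
  have h1 : M 0 0 * (M 0 0 + M 1 1) = 0 := by linear_combination e00 + hd
  rcases mul_eq_zero.1 h1 with ha | ha
  · have h2 : M 0 1 * M 1 0 = -1 := by rw [ha] at e00; linear_combination e00
    have hb : M 0 1 ≠ 0 := fun hb => by rw [hb, zero_mul] at h2; exact neg_ne_zero.2 one_ne_zero h2.symm
    have h3 : M 0 1 * (M 0 0 + M 1 1) = 0 := by linear_combination e01
    linear_combination (mul_eq_zero.1 h3).resolve_left hb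
  · linear_combination ha

private theorem inv_inverts {J h g : SL2F} (hjh : (J : M2F) * h = g * J) (hg : g * h = 1) :
    J * h * J⁻¹ = h⁻¹ := by
  rw [mul_inv_eq_iff_eq_mul, eq_comm, inv_eq_of_mul_eq_one_left hg]
  exact Subtype.ext (by rw [Matrix.SpecialLinearGroup.coe_mul, Matrix.SpecialLinearGroup.coe_mul]; exact hjh.symm)

variable [CharP F 3]

private theorem three_zero : (3 : F) = 0 := CharP.ofNat_eq_zero F 3

private theorem one_ne_neg_one : (1 : F) ≠ -1 := fun h => by
  have h3 : (3 : F) = 0 := three_zero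
  exact one_ne_zero (show (1 : F) = 0 by linear_combination h3 - h)

/-- The square roots of one in `SL₂`. -/
private theorem sq_one {M : M2F} (h : M * M = 1) (hd : M.det = 1) : ∃ c : Fˣ, M = (c : F) • (1 : M2F) := by
  have e00 := congr_fun (congr_fun h 0) 0
  have e01 := congr_fun (congr_fun h 0) 1
  have e10 := congr_fun (congr_fun h 1) 0
  simp [Matrix.mul_apply, Fin.sum_univ_two] at e00 e01 e10
  rw [Matrix.det_fin_two] at hd
  have hs : M 0 0 + M 1 1 ≠ 0 := fun hs => one_ne_neg_one (show (1 : F) = -1 by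
    linear_combination -hd - e00 + M 0 0 * hs)
  have hb : M 0 1 = 0 := (mul_eq_zero.1 (show M 0 1 * (M 0 0 + M 1 1) = 0 by linear_combination e01)).resolve_right hs
  have hc : M 1 0 = 0 := (mul_eq_zero.1 (show M 1 0 * (M 0 0 + M 1 1) = 0 by linear_combination e10)).resolve_right hs
  rw [hb, zero_mul] at e00 hd
  have ha : M 0 0 ≠ 0 := fun ha => by rw [ha] at e00; simp at e00
  have hda : M 1 1 = M 0 0 := mul_left_cancel₀ ha (by linear_combination hd - e00)
  refine ⟨Units.mk0 _ ha, ?_⟩
  ext i j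
  fin_cases i <;> fin_cases j <;> simp [hb, hc, hda]

private theorem cj_eq_of_commute {J K : SL2F} (hJ : (J : M2F) * J = -1) (hK : (K : M2F) * K = -1)
    (hc : (J : M2F) * K = (K : M2F) * J) : cj K = cj J := by
  obtain ⟨c, hc'⟩ := sq_one (M := (J : M2F) * (K : M2F))
    (by
      calc (J : M2F) * K * (J * K) = J * ((K : M2F) * J) * K := by simp only [Matrix.mul_assoc]
        _ = (J : M2F) * J * ((K : M2F) * K) := by rw [← hc]; simp only [Matrix.mul_assoc]
        _ = 1 := by rw [hJ, hK, neg_mul_neg, Matrix.one_mul])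
    (by rw [Matrix.det_mul, J.2, K.2, mul_one])
  refine cj_eq_of_smul (-c) ?_
  have h1 : (J : M2F) * (J * K) = -(K : M2F) := by rw [← Matrix.mul_assoc, hJ, neg_one_mul]
  rw [hc', Matrix.mul_smul, Matrix.mul_one] at h1
  rw [Units.val_neg, neg_smul, h1, neg_neg]

/-- Commuting conjugations: equal or given by anticommuting elements. -/
private theorem anticommute {J K : SL2F} (hJ : (J : M2F) * J = -1) (hK : (K : M2F) * K = -1)
    (hcomm : cj J * cj K = cj K * cj J) (hne : cj K ≠ cj J) : (J : M2F) * K = -((K : M2F) * J) := by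
  rw [← cj_mul, ← cj_mul, cj_eq, cj_eq] at hcomm
  obtain ⟨-, c, hc⟩ := (semi_eq_iff le_rfl).1 hcomm
  have hm : (J : M2F) * K = (c : F) • ((K : M2F) * J) := by
    have h := congrArg (fun g : GL (Fin 2) F => (g : M2F)) hc
    simp only [Units.val_mul, scl_coe, coe_toGL, Matrix.SpecialLinearGroup.coe_mul, smul_mul, Matrix.one_mul] at h
    exact h
  have hd := congrArg Matrix.det hm
  rw [Matrix.det_smul, Matrix.det_mul, Matrix.det_mul, J.2, K.2, Fintype.card_fin, mul_one, mul_one] at hd
  rcases mul_self_eq_one_iff.1 (show (c : F) * c = 1 by rw [← pow_two]; exact hd.symm) with h | h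
  · exact absurd (cj_eq_of_commute hJ hK (by rw [hm, h, one_smul])) hne
  · rw [hm, h, neg_smul, one_smul]

/-- An anticommuting partner. -/
private theorem exists_anti (hn : ¬ IsSquare (-1 : F)) {J : SL2F} (hJ : (J : M2F) * J = -1) :
    ∃ K : SL2F, (K : M2F) * K = -1 ∧ (J : M2F) * K = -((K : M2F) * J) := by
  have h3 : (3 : F) = 0 := three_zero
  have hd := trace_zero hJ J.2
  have hdet := J.2
  rw [Matrix.det_fin_two, hd] at hdet
  generalize hadef : (J : M2F) 0 0 = a at hd hdet
  generalize hbdef : (J : M2F) 0 1 = b at hdet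
  generalize hedef : (J : M2F) 1 0 = e at hdet
  have he : e ≠ 0 := fun he => hn ⟨a, by rw [he] at hdet; linear_combination hdet⟩
  obtain ⟨w, hw⟩ : ∃ w, e * w = -(2 * a + a * a - 1) := ⟨-(2 * a + a * a - 1) / e, mul_div_cancel₀ _ he⟩
  have hK : ((1 + a) * (-(1 + a)) - w * e : F) = 1 := by linear_combination -hw - h3
  refine ⟨⟨!![1 + a, w; e, -(1 + a)], by rw [Matrix.det_fin_two_of]; exact hK⟩, ?_, ?_⟩
  · ext i j
    fin_cases i <;> fin_cases j <;> simp [Matrix.mul_apply, Fin.sum_univ_two] <;>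
      first | linear_combination -hK | ring
  · have hJm : (J : M2F) = !![a, b; e, -a] := by
      rw [← hd, ← hadef, ← hbdef, ← hedef]; exact Matrix.eta_fin_two _
    rw [hJm]
    ext i j
    fin_cases i <;> fin_cases j <;> simp [Matrix.mul_apply, Fin.sum_univ_two] <;>
      first | linear_combination hw - hdet | ring

/-- The elements `x + y K`. -/
private def torus {K : SL2F} (hK : (K : M2F) * K = -1) : Subgroup SL2F where
  carrier := {h | ∃ x y : F, x * x + y * y = 1 ∧ (h : M2F) = x • (1 : M2F) + y • (K : M2F)}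
  one_mem' := ⟨1, 0, by ring, by simp⟩
  mul_mem' := by
    rintro g h ⟨x, y, hxy, hg⟩ ⟨z, w, hzw, hh⟩
    refine ⟨x * z - y * w, x * w + y * z, by linear_combination (z * z + w * w) * hxy + hzw, ?_⟩
    rw [Matrix.SpecialLinearGroup.coe_mul, hg, hh]
    simp only [add_mul, mul_add, smul_mul, Matrix.mul_smul, Matrix.one_mul, Matrix.mul_one, smul_smul, hK,
      smul_neg, sub_smul, add_smul]
    module
  inv_mem' := by
    rintro g ⟨x, y, hxy, hg⟩
    refine ⟨x, -y, by linear_combination hxy, ?_⟩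
    rw [Matrix.SpecialLinearGroup.coe_inv, hg, Matrix.adjugate_fin_two]
    have hd := trace_zero hK K.2
    ext i j
    fin_cases i <;> fin_cases j <;> simp [hd]

/-- The points of the circle. -/
private noncomputable def circleEquiv [DecidableEq F] (hn : ¬ IsSquare (-1 : F)) : Option F ≃ {v : F × F // v.1 * v.1 + v.2 * v.2 = 1} :=
  have hne : ∀ t : F, 1 + t * t ≠ 0 := fun t h => hn ⟨t, by linear_combination -h⟩
  have h2 : (2 : F) ≠ 0 := fun h => one_ne_neg_one (F := F) (by linear_combination h)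
  { toFun := fun o => match o with
      | none => ⟨(-1, 0), by ring⟩
      | some t => ⟨((1 - t * t) / (1 + t * t), 2 * t / (1 + t * t)), by
          have := hne t
          rw [div_mul_div_comm, div_mul_div_comm, ← add_div, div_eq_one_iff_eq (mul_ne_zero this this)]; ring⟩
    invFun := fun v => if v.1.1 = -1 then none else some (v.1.2 / (1 + v.1.1))
    left_inv := fun o => by
      rcases o with _ | t
      · simp
      · have := hne t
        have h1 : (1 - t * t) / (1 + t * t) ≠ -1 := fun h => by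
          rw [div_eq_iff this] at h
          exact h2 (by linear_combination h)
        simp only [if_neg h1, Option.some.injEq]
        have h4 : 1 + (1 - t * t) / (1 + t * t) = 2 / (1 + t * t) := by
          rw [one_add_div this, show 1 + t * t + (1 - t * t) = (2 : F) by ring]
        rw [h4, div_div_div_cancel_right₀ this, mul_div_cancel_left₀ t h2]
    right_inv := fun v => by
      obtain ⟨⟨x, y⟩, hv⟩ := v
      simp only at hv
      by_cases hx : x = -1
      · subst hx
        have hy : y * y = 0 := by linear_combination hv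
        simp only [if_true, Subtype.mk.injEq, Prod.mk.injEq, true_and]
        exact (mul_self_eq_zero.1 hy).symm
      · have hx1 : 1 + x ≠ 0 := fun h => hx (by linear_combination h)
        have h4 : 1 + y / (1 + x) * (y / (1 + x)) = 2 / (1 + x) := by
          field_simp; linear_combination hv
        simp only [if_neg hx, Subtype.mk.injEq, Prod.mk.injEq, h4]
        constructor
        · field_simp; linear_combination -hv
        · field_simp }

private theorem card_torus [Fintype F] (hn : ¬ IsSquare (-1 : F)) {K : SL2F} (hK : (K : M2F) * K = -1) :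
    Nat.card (torus hK) = Fintype.card F + 1 := by
  classical
  have hd := trace_zero hK K.2
  have hdet : ∀ v : {v : F × F // v.1 * v.1 + v.2 * v.2 = 1}, (v.1.1 • (1 : M2F) + v.1.2 • (K : M2F)).det = 1 := by
    rintro ⟨⟨x, y⟩, hv⟩
    have h := K.2
    rw [Matrix.det_fin_two, hd] at h
    rw [Matrix.det_fin_two]
    simp [hd]
    simp only at hv
    linear_combination hv + y * y * h
  let φ : {v : F × F // v.1 * v.1 + v.2 * v.2 = 1} → torus hK := fun v =>
    ⟨⟨_, hdet v⟩, v.1.1, v.1.2, v.2, rfl⟩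
  have hφ : Function.Bijective φ := by
    refine ⟨fun v w h => ?_, fun h => ?_⟩
    · obtain ⟨⟨x, y⟩, hv⟩ := v
      obtain ⟨⟨z, w⟩, hw⟩ := w
      have h' := congrArg (fun g : torus hK => ((g : SL2F) : M2F)) h
      simp only [φ] at h'
      have e00 := congr_fun (congr_fun h' 0) 0
      have e11 := congr_fun (congr_fun h' 1) 1
      have e01 := congr_fun (congr_fun h' 0) 1
      simp [hd] at e00 e11 e01
      have hb : (K : M2F) 0 1 ≠ 0 := fun hb => by
        have h := K.2
        rw [Matrix.det_fin_two, hd, hb] at h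
        exact hn ⟨(K : M2F) 0 0, by linear_combination h⟩
      have hy : y = w := e01.resolve_right hb
      subst hy
      simp only [Subtype.mk.injEq, Prod.mk.injEq, and_true]
      linear_combination e00
    · obtain ⟨g, x, y, hxy, hg⟩ := h
      exact ⟨⟨(x, y), hxy⟩, Subtype.ext (Subtype.ext hg.symm)⟩
  rw [← Nat.card_eq_of_bijective φ hφ, ← Nat.card_congr (circleEquiv hn), Finite.card_option,
    Nat.card_eq_fintype_card]

/-- An element of order `r` fixed by one conjugation and inverted by the other. -/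
private theorem exists_element [Fintype F] (hn : ¬ IsSquare (-1 : F)) {r : ℕ} (hr : r.Prime) (h5 : 5 ≤ r)
    (hrq : r ∣ Fintype.card F + 1) {J K : SL2F} (hK : (K : M2F) * K = -1) (hJK : (J : M2F) * K = -((K : M2F) * J)) :
    ∃ x : PSL2F, orderOf x = r ∧ cj J x = x⁻¹ ∧ cj K x = x := by
  haveI : Fact r.Prime := ⟨hr⟩
  obtain ⟨⟨h, x, y, hxy, hh⟩, ho⟩ := exists_prime_orderOf_dvd_card' (G := torus hK) r (card_torus hn hK ▸ hrq)
  rw [← Subgroup.orderOf_coe] at ho
  simp only at ho
  refine ⟨(QuotientGroup.mk h : PSL2F), orderOf_eq_prime (by rw [← QuotientGroup.mk_pow, ← ho, pow_orderOf_eq_one]; rfl)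
    (fun h1 => ?_), ?_, ?_⟩
  · obtain ⟨c, hc, hce⟩ := Matrix.SpecialLinearGroup.mem_center_iff.1 ((QuotientGroup.eq_one_iff h).1 h1)
    have h2 : h ^ 2 = 1 := by
      refine Subtype.ext ?_
      rw [Matrix.SpecialLinearGroup.coe_pow, ← hce, ← map_pow]
      rw [Fintype.card_fin] at hc
      simp [hc]
    have := Nat.le_of_dvd two_pos (ho ▸ orderOf_dvd_of_pow_eq_one h2)
    omega
  · rw [cj_mk, ← QuotientGroup.mk_inv]
    refine congrArg _ ?_
    obtain ⟨g, hg⟩ : ∃ g : SL2F, (g : M2F) = x • (1 : M2F) + (-y) • (K : M2F) := by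
      refine ⟨⟨_, ?_⟩, rfl⟩
      have hd := trace_zero hK K.2
      have h := K.2
      rw [Matrix.det_fin_two, hd] at h
      rw [Matrix.det_fin_two]
      simp [hd]
      linear_combination hxy + y * y * h
    refine inv_inverts (g := g) ?_ (Subtype.ext ?_)
    · rw [hg, hh, mul_add, add_mul, Matrix.mul_smul, Matrix.mul_smul, smul_mul, smul_mul, hJK, Matrix.mul_one,
        Matrix.one_mul, neg_smul, smul_neg]
    · have hd := trace_zero hK K.2
      have h := K.2
      rw [Matrix.det_fin_two, hd] at h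
      rw [Matrix.SpecialLinearGroup.coe_mul, Matrix.SpecialLinearGroup.coe_one, hg, hh]
      ext i j
      fin_cases i <;> fin_cases j <;> simp [Matrix.mul_apply, Fin.sum_univ_two, hd] <;>
        first | linear_combination hxy + y * y * h | ring
  · rw [cj_mk]
    refine congrArg _ ?_
    rw [mul_inv_eq_iff_eq_mul]
    refine Subtype.ext ?_
    rw [Matrix.SpecialLinearGroup.coe_mul, Matrix.SpecialLinearGroup.coe_mul, hh]
    simp only [add_mul, mul_add, smul_mul, Matrix.mul_smul, Matrix.one_mul, Matrix.mul_one]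

/-- Involutory automorphisms inverting no element of order three are given by square roots of minus one. -/
private theorem exists_lift [Fintype F] {n : ℕ} (hF : Fintype.card F = 3 ^ (2 * n + 1)) (hn : ¬ IsSquare (-1 : F))
    {b : MulAut PSL2F} (hb2 : b ^ 2 = 1) (hb1 : b ≠ 1) (h3 : ∀ y : PSL2F, orderOf y = 3 → b y ≠ y⁻¹) :
    ∃ J : SL2F, (J : M2F) * J = -1 ∧ b = cj J := by
  classical
  haveI : Fact (Nat.Prime 3) := ⟨Nat.prime_three⟩
  have h30 : (3 : F) = 0 := three_zero
  obtain ⟨A, σ, hA⟩ : ∃ (A : GL (Fin 2) F) (σ : F ≃+* F), b = semiAut A σ := by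
    obtain ⟨A, σ, rfl | rfl⟩ := exists_semi le_rfl b
    · exact ⟨A, σ, rfl⟩
    · obtain ⟨w, hw⟩ := Balance.it_two (F := F)
      exact ⟨_, _, by rw [hw, semiAut_mul]⟩
  subst hA
  rw [pow_two, semiAut_mul, ← semiAut_one, semi_eq_iff le_rfl] at hb2
  obtain ⟨hσ2, c, hc⟩ := hb2
  obtain ⟨φ⟩ := ringAut_cyclic (F := F) hF
  have hσ : σ = RingEquiv.refl F := by
    have h1 : (φ σ) * φ σ = 1 := by rw [← map_mul, ← map_one φ]; exact congrArg φ hσ2
    have h2 : (φ σ) ^ (2 * n + 1) = 1 := by
      have h := pow_card_eq_one' (G := Multiplicative (ZMod (2 * n + 1))) (x := φ σ)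
      rwa [Nat.card_congr Multiplicative.toAdd, Nat.card_zmod] at h
    rw [pow_succ, pow_mul, pow_two, h1, one_pow, one_mul] at h2
    exact φ.injective (h2.trans (map_one φ).symm)
  subst hσ
  have hm : (A : M2F) * A = (c : F) • (1 : M2F) := by
    have h := congrArg (fun g : GL (Fin 2) F => (g : M2F)) hc
    simp only [Units.val_mul, mul_one, scl_coe] at h
    exact h
  have e00 := congr_fun (congr_fun hm 0) 0
  have e01 := congr_fun (congr_fun hm 0) 1
  have e10 := congr_fun (congr_fun hm 1) 0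
  have e11 := congr_fun (congr_fun hm 1) 1
  simp [Matrix.mul_apply, Fin.sum_univ_two] at e00 e01 e10 e11
  generalize hadef : (A : M2F) 0 0 = a at e00 e01 e10
  generalize hbdef : (A : M2F) 0 1 = p at e00 e01 e11
  generalize hedef : (A : M2F) 1 0 = e at e00 e10 e11
  generalize hddef : (A : M2F) 1 1 = d at e01 e10 e11
  have had : d = -a := by
    by_contra hne
    have hs : a + d ≠ 0 := fun h => hne (by linear_combination h)
    have hp : p = 0 := (mul_eq_zero.1 (show p * (a + d) = 0 by linear_combination e01)).resolve_right hs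
    have he : e = 0 := (mul_eq_zero.1 (show e * (a + d) = 0 by linear_combination e10)).resolve_right hs
    have hda : d = a := by
      rw [hp] at e00 e11
      linear_combination (mul_eq_zero.1 (show (d - a) * (a + d) = 0 by linear_combination e11 - e00)).resolve_right hs
    have ha0 : a ≠ 0 := fun h => hs (by rw [hda, h, add_zero])
    refine hb1 ?_
    rw [← semiAut_one, semi_eq_iff le_rfl]
    refine ⟨rfl, Units.mk0 a ha0, Units.ext ?_⟩
    rw [mul_one, scl_coe, Units.val_mk0, Matrix.eta_fin_two (A : M2F), hadef, hbdef, hedef, hddef, hp, he, hda]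
    ext i j
    fin_cases i <;> fin_cases j <;> simp
  subst had
  have hdet : (A : M2F).det = -(c : F) := by
    rw [Matrix.det_fin_two, hadef, hbdef, hedef, hddef]; linear_combination -e00
  by_cases hsq : IsSquare (-(c : F))
  · obtain ⟨k, hk⟩ := hsq
    have hk0 : k ≠ 0 := fun h => c.ne_zero (by rw [h, mul_zero, neg_eq_zero] at hk; exact hk)
    have hd1 : (k⁻¹ • (A : M2F)).det = 1 := by
      rw [Matrix.det_smul, hdet, hk, Fintype.card_fin]; field_simp
    refine ⟨⟨k⁻¹ • (A : M2F), hd1⟩, ?_, ?_⟩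
    · show k⁻¹ • (A : M2F) * k⁻¹ • (A : M2F) = -1
      rw [smul_mul, Matrix.mul_smul, hm, smul_smul, smul_smul]
      rw [show k⁻¹ * k⁻¹ * (c : F) = -1 by
        rw [show (c : F) = -(k * k) by linear_combination -hk]; field_simp]
      rw [neg_one_smul]
    · refine ((cj_eq _).trans ?_).symm
      rw [← semiAut_scl_mul (Units.mk0 k hk0)⁻¹ A]
      congr 1
      refine Units.ext ?_
      rw [Units.val_mul, scl_coe, smul_mul, Matrix.one_mul, Units.val_inv_eq_inv_val, Units.val_mk0]
      rfl
  · obtain ⟨s, hs⟩ : IsSquare (c : F) := by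
      have hc0 : -(c : F) ≠ 0 := neg_ne_zero.2 c.ne_zero
      have h1 := quadraticChar_neg_one_iff_not_isSquare.2 hsq
      have h2 := quadraticChar_neg_one_iff_not_isSquare.2 hn
      refine (quadraticChar_one_iff_isSquare c.ne_zero).1 ?_
      rw [show (c : F) = -1 * -(c : F) by ring, map_mul, h1, h2]; norm_num
    exfalso
    obtain ⟨N, hN2, hN0, hAN⟩ : ∃ N : M2F, (1 + N).det = 1 ∧ (N 0 1 ≠ 0 ∧ N * N = 0) ∧ (A : M2F) * N = -(N * A) := by
      rw [Matrix.eta_fin_two (A : M2F), hadef, hbdef, hedef, hddef]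
      rcases eq_or_ne p 0 with hp | hp
      · have ha0 : a ≠ 0 := fun h => c.ne_zero (by rw [hp, h] at e00; linear_combination -e00)
        refine ⟨!![-2 * a * e, 4 * a * a; -e * e, 2 * a * e], ?_, ⟨?_, ?_⟩, ?_⟩
        · rw [Matrix.det_fin_two]; simp; ring
        · have h4 : (4 : F) * a * a = a * a := by linear_combination a * a * h30
          simp [h4, ha0]
        · ext i j; fin_cases i <;> fin_cases j <;> simp [Matrix.mul_apply, Fin.sum_univ_two] <;> ring
        · subst hp
          ext i j; fin_cases i <;> fin_cases j <;> simp [Matrix.mul_apply, Fin.sum_univ_two] <;> ring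
      · refine ⟨!![p * (a - s), p * p; -((a - s) * (a - s)), -(p * (a - s))], ?_, ⟨?_, ?_⟩, ?_⟩
        · rw [Matrix.det_fin_two]; simp; ring
        · simp [hp]
        · ext i j; fin_cases i <;> fin_cases j <;> simp [Matrix.mul_apply, Fin.sum_univ_two] <;> ring
        · ext i j
          fin_cases i <;> fin_cases j <;> simp [Matrix.mul_apply, Fin.sum_univ_two] <;> first
            | linear_combination p * (e00 + hs)
            | linear_combination -p * (e00 + hs)
            | linear_combination (a - s) * (e00 + hs)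
            | linear_combination -(a - s) * (e00 + hs)
            | ring
    obtain ⟨u, hu⟩ : ∃ u : SL2F, (u : M2F) = 1 + N := ⟨⟨_, hN2⟩, rfl⟩
    obtain ⟨g, hg⟩ : ∃ g : SL2F, (g : M2F) = 1 - N := ⟨u⁻¹, by
      rw [Matrix.SpecialLinearGroup.coe_inv, hu, Matrix.adjugate_fin_two]
      obtain ⟨hb0, hsq0⟩ := hN0
      have f00 := congr_fun (congr_fun hsq0 0) 1
      simp [Matrix.mul_apply, Fin.sum_univ_two] at f00
      have htr : N 1 1 = -N 0 0 := by
        linear_combination (mul_eq_zero.1 (show N 0 1 * (N 0 0 + N 1 1) = 0 by linear_combination f00)).resolve_left hb0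
      ext i j
      fin_cases i <;> fin_cases j <;> simp [htr] <;> ring⟩
    obtain ⟨hb0, hsq0⟩ := hN0
    have hgu : g * u = 1 := Subtype.ext (by
      rw [Matrix.SpecialLinearGroup.coe_mul, hu, hg, Matrix.SpecialLinearGroup.coe_one, sub_mul, mul_add, mul_add,
        hsq0, Matrix.one_mul, Matrix.one_mul, Matrix.mul_one, add_zero, add_sub_cancel_right])
    refine h3 (QuotientGroup.mk u : PSL2F) (orderOf_eq_prime ?_ fun h1 => ?_) ?_
    · rw [← QuotientGroup.mk_pow, show u ^ 3 = 1 from Subtype.ext ?_]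
      · rfl
      rw [Matrix.SpecialLinearGroup.coe_pow, hu, Matrix.SpecialLinearGroup.coe_one, pow_three]
      simp only [mul_add, add_mul, Matrix.one_mul, Matrix.mul_one, hsq0, Matrix.zero_mul, Matrix.mul_zero, add_zero]
      have : (3 : F) • N = 0 := by rw [h30, zero_smul]
      rw [show (3 : F) = 1 + 1 + 1 by norm_num, add_smul, add_smul, one_smul] at this
      rw [add_assoc, add_assoc, ← add_assoc N, this, add_zero]
    · obtain ⟨r, -, hr⟩ := Matrix.SpecialLinearGroup.mem_center_iff.1 ((QuotientGroup.eq_one_iff u).1 h1)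
      have := congr_fun (congr_fun hr 0) 1
      simp [hu] at this
      exact hb0 this.symm
    · rw [semiAut_mk, ← QuotientGroup.mk_inv, inv_eq_of_mul_eq_one_left hgu]
      refine congrArg _ (Subtype.ext ?_)
      rw [semiSL_coe, hg, hu, show ((1 + N).map (RingEquiv.refl F)) = 1 + N from Matrix.ext fun i j => rfl]
      rw [mul_add, Matrix.mul_one, hAN, ← sub_eq_add_neg, sub_mul, ← Units.val_mul, mul_inv_cancel, Units.val_one,
        Matrix.mul_assoc, ← Units.val_mul, mul_inv_cancel, Units.val_one, Matrix.mul_one]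

omit [CharP F 3] in
theorem goodSimple_psl2 [Fintype F] {n : ℕ} (hn1 : 1 ≤ n) (hF : Fintype.card F = 3 ^ (2 * n + 1)) :
    GoodSimple PSL2F := by
  classical
  haveI : Fact (Nat.Prime 3) := ⟨Nat.prime_three⟩
  haveI : CharP F 3 := by
    obtain ⟨p, hp⟩ := CharP.exists F
    obtain ⟨k, hp', hk⟩ := FiniteField.card F p
    have h1 : p ∣ 3 ^ (2 * n + 1) := hF ▸ hk ▸ dvd_pow_self p k.pos.ne'
    rwa [← (Nat.prime_dvd_prime_iff_eq hp' Nat.prime_three).1 (hp'.dvd_of_dvd_pow h1)]
  have h9 : ∀ j : ℕ, 3 ^ (2 * j + 1) % 8 = 3 := fun j => by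
    induction j with
    | zero => norm_num
    | succ j ih => rw [show 2 * (j + 1) + 1 = 2 * j + 1 + 2 by ring, pow_add]; omega
  have hmod := h9 n
  have hns : ¬ IsSquare (-1 : F) := by
    rw [FiniteField.isSquare_neg_one_iff, hF]; omega
  obtain ⟨m, hm⟩ : ∃ m, Fintype.card F + 1 = 4 * (2 * m + 1) := ⟨(3 ^ (2 * n + 1) + 1) / 8, by rw [hF]; omega⟩
  have hbig : 27 ≤ 3 ^ (2 * n + 1) :=
    le_trans (by norm_num) (Nat.pow_le_pow_right (show 0 < 3 by norm_num) (show 3 ≤ 2 * n + 1 by omega))
  obtain ⟨r, hr, hrm⟩ := Nat.exists_prime_and_dvd (show 2 * m + 1 ≠ 1 by omega)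
  have hrq : r ∣ Fintype.card F + 1 := hm ▸ hrm.mul_left 4
  have h3q : 3 ∣ Fintype.card F := hF ▸ dvd_pow_self 3 (by omega)
  have hr5 : 5 ≤ r := by
    have := hr.two_le
    have h2 : r ≠ 2 := by rintro rfl; omega
    have h3 : r ≠ 3 := by rintro rfl; omega
    have h4 : r ≠ 4 := by rintro rfl; norm_num at hr
    omega
  have hrcard : r ∣ Nat.card PSL2F := by
    obtain ⟨J, hJ⟩ : ∃ J : SL2F, (J : M2F) * J = -1 := ⟨⟨!![0, 1; -1, 0], by simp [Matrix.det_fin_two]⟩, by
      ext i j; fin_cases i <;> fin_cases j <;> simp [Matrix.mul_apply, Fin.sum_univ_two]⟩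
    obtain ⟨K, hK, hJK⟩ := exists_anti hns hJ
    obtain ⟨x, hx, -, -⟩ := exists_element hns hr hr5 hrq hK hJK
    exact hx ▸ orderOf_dvd_natCard x
  refine ⟨⟨r, hr, hr5, hrcard⟩, fun B hB hB1 h3 => ?_⟩
  haveI := hB.1
  obtain ⟨b, hb, hb1⟩ := B.bot_or_exists_ne_one.resolve_left hB1
  obtain ⟨J, hJ, hbJ⟩ := exists_lift hF hns (hB.2 b hb) hb1 (h3 b hb)
  by_cases hex : ∃ c ∈ B, c ≠ 1 ∧ c ≠ b
  · obtain ⟨c, hc, hc1, hcb⟩ := hex
    obtain ⟨K, hK, hcK⟩ := exists_lift hF hns (hB.2 c hc) hc1 (h3 c hc)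
    have hJK := anticommute hJ hK (by rw [← hbJ, ← hcK]; exact setLike_mul_comm hb hc) (by rwa [← hbJ, ← hcK])
    obtain ⟨x, hx, hJx, hKx⟩ := exists_element hns hr hr5 hrq hK hJK
    have hfix : ∀ h ∈ Subgroup.zpowers c, h x = x := by
      intro h hh
      have hle : Subgroup.zpowers c ≤ MulAction.stabilizer (MulAut PSL2F) x :=
        Subgroup.zpowers_le.2 (by rw [MulAction.mem_stabilizer_iff, MulAut.smul_def, hcK]; exact hKx)
      exact MulAction.mem_stabilizer_iff.1 (hle hh)
    refine ⟨Subgroup.zpowers c, b, x, r, Subgroup.zpowers_le.2 hc, hb, fun h => ?_, hr, hr5, hx,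
      by rw [hbJ]; exact hJx, hfix, Or.inl ?_⟩
    · have h1 := hfix b h
      rw [hbJ, hJx, inv_eq_iff_mul_eq_one, ← pow_two] at h1
      have := Nat.le_of_dvd two_pos (hx ▸ orderOf_dvd_of_pow_eq_one h1)
      omega
    · have hbn : b ∉ Subgroup.zpowers c := fun h => by
        have h1 := hfix b h
        rw [hbJ, hJx, inv_eq_iff_mul_eq_one, ← pow_two] at h1
        have := Nat.le_of_dvd two_pos (hx ▸ orderOf_dvd_of_pow_eq_one h1)
        omega
      rw [Subgroup.relIndex, Subgroup.index_eq_two_iff]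
      refine ⟨⟨b, hb⟩, fun z => ?_⟩
      simp only [Subgroup.mem_subgroupOf, Subgroup.coe_mul]
      have hbb : b * b = 1 := by rw [← pow_two]; exact hB.2 b hb
      have hall : (z : MulAut PSL2F) ∈ Subgroup.zpowers c ∨ (z : MulAut PSL2F) * b ∈ Subgroup.zpowers c := by
        by_cases hz1 : (z : MulAut PSL2F) = 1
        · exact Or.inl (hz1 ▸ one_mem _)
        by_cases hzc : (z : MulAut PSL2F) = c
        · exact Or.inl (hzc ▸ Subgroup.mem_zpowers c)
        by_cases hzb : (z : MulAut PSL2F) = b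
        · exact Or.inr (by rw [hzb, hbb]; exact one_mem _)
        obtain ⟨L, hL, hzL⟩ := exists_lift hF hns (hB.2 _ z.2) hz1 (h3 _ z.2)
        have hJL := anticommute hJ hL (by rw [← hbJ, ← hzL]; exact setLike_mul_comm hb z.2) (by rwa [← hbJ, ← hzL])
        have hKL := anticommute hK hL (by rw [← hcK, ← hzL]; exact setLike_mul_comm hc z.2) (by rwa [← hcK, ← hzL])
        have hsq : ((J * K : SL2F) : M2F) * (J * K : SL2F) = -1 := by
          rw [Matrix.SpecialLinearGroup.coe_mul]
          calc (J : M2F) * K * (J * K) = J * ((K : M2F) * J) * K := by simp only [Matrix.mul_assoc]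
            _ = -((J : M2F) * J * ((K : M2F) * K)) := by
              rw [show (K : M2F) * J = -((J : M2F) * K) by rw [hJK, neg_neg]]
              simp only [Matrix.mul_neg, Matrix.neg_mul, Matrix.mul_assoc]
            _ = -1 := by rw [hJ, hK, neg_mul_neg, Matrix.one_mul]
        have hcm : ((J * K : SL2F) : M2F) * L = L * (J * K : SL2F) := by
          rw [Matrix.SpecialLinearGroup.coe_mul]
          calc (J : M2F) * K * L = J * ((K : M2F) * L) := Matrix.mul_assoc _ _ _
            _ = -((J : M2F) * L * K) := by rw [hKL]; simp only [Matrix.mul_neg, Matrix.mul_assoc]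
            _ = _ := by rw [hJL]; simp only [Matrix.neg_mul, neg_neg, Matrix.mul_assoc]
        have h5 := cj_eq_of_commute hsq hL hcm
        rw [cj_mul, ← hbJ, ← hcK, ← hzL] at h5
        refine Or.inr ?_
        rw [h5, setLike_mul_comm hb hc, mul_assoc, hbb, mul_one]
        exact Subgroup.mem_zpowers c
      rcases hall with hz | hz
      · exact Or.inr ⟨hz, fun h => hbn ((Subgroup.mul_mem_cancel_left _ hz).1 h)⟩
      · refine Or.inl ⟨hz, fun h => hbn ((Subgroup.mul_mem_cancel_left _ h).1 hz)⟩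
  · obtain ⟨K, hK, hJK⟩ := exists_anti hns hJ
    obtain ⟨x, hx, hJx, -⟩ := exists_element hns hr hr5 hrq hK hJK
    refine ⟨⊥, b, x, r, bot_le, hb, hb1, hr, hr5, hx, by rw [hbJ]; exact hJx,
      fun h hh => by rw [Subgroup.mem_bot.1 hh]; rfl, Or.inl ?_⟩
    rw [Subgroup.relIndex, Subgroup.index_eq_two_iff]
    refine ⟨⟨b, hb⟩, fun z => ?_⟩
    simp only [Subgroup.mem_subgroupOf, Subgroup.coe_mul, Subgroup.mem_bot]
    have hbb : b * b = 1 := by rw [← pow_two]; exact hB.2 b hb
    by_cases hz : (z : MulAut PSL2F) = 1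
    · exact Or.inr ⟨hz, by rw [hz, one_mul]; exact hb1⟩
    · refine Or.inl ⟨?_, hz⟩
      have : (z : MulAut PSL2F) = b := by
        by_contra hne; exact hex ⟨_, z.2, hz, hne⟩
      rw [this, hbb]

/-- No square root of minus one is a square. -/
private theorem no_four (hn : ¬ IsSquare (-1 : F)) {M : M2F} (hd : M.det = 1)
    (h : M * M * (M * M) = -1) : False := by
  have h2 := trace_zero h (by rw [Matrix.det_mul, hd, mul_one])
  rw [Matrix.det_fin_two] at hd
  simp [Matrix.mul_apply, Fin.sum_univ_two] at h2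
  have h3 : (3 : F) = 0 := three_zero
  exact hn ⟨M 0 0 + M 1 1, by linear_combination -h2 - 2 * hd - h3⟩

/-- The elements whose image is a `2`-element. -/
private theorem two_elem (hn : ¬ IsSquare (-1 : F)) {h : M2F} (hd : h.det = 1) :
    ∀ k : ℕ, h ^ 2 ^ k = 1 ∨ h ^ 2 ^ k = -1 → h * h = 1 ∨ h * h = -1
  | 0, h0 => by
    rw [pow_zero, pow_one] at h0
    rcases h0 with rfl | rfl <;> simp
  | 1, h0 => by rwa [pow_one, pow_two] at h0
  | k + 2, h0 => by
    refine two_elem hn hd (k + 1) ?_
    rw [show 2 ^ (k + 2) = 2 ^ (k + 1) + 2 ^ (k + 1) by ring, pow_add] at h0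
    rcases h0 with h0 | h0
    · obtain ⟨c, hc⟩ := sq_one h0 (by rw [Matrix.det_pow, hd, one_pow])
      have hdet := congrArg Matrix.det hc
      rw [Matrix.det_smul, Matrix.det_one, Matrix.det_pow, hd, one_pow, Fintype.card_fin, mul_one, pow_two] at hdet
      rcases mul_self_eq_one_iff.1 hdet.symm with e | e
      · exact Or.inl (by rw [hc, e, one_smul])
      · exact Or.inr (by rw [hc, e, neg_smul, one_smul])
    · exfalso
      rw [show 2 ^ (k + 1) = 2 ^ k + 2 ^ k by ring, pow_add] at h0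
      exact no_four hn (by rw [Matrix.det_pow, hd, one_pow]) h0

/-- Conjugations are scalar only for central elements. -/
private theorem cj_one {J : SL2F} (h : cj J = 1) : (J : M2F) = 1 ∨ (J : M2F) = -1 := by
  rw [cj_eq, ← semiAut_one, semi_eq_iff le_rfl] at h
  obtain ⟨-, c, hc⟩ := h
  have h' := congrArg (fun g : GL (Fin 2) F => (g : M2F)) hc
  simp only [Units.val_mul, mul_one, scl_coe, coe_toGL] at h'
  have hd := J.2
  rw [h', Matrix.det_smul, Matrix.det_one, mul_one, Fintype.card_fin, pow_two] at hd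
  rcases mul_self_eq_one_iff.1 hd with e | e
  · exact Or.inl (by rw [h', e, one_smul])
  · exact Or.inr (by rw [h', e, neg_smul, one_smul])

omit [CharP F 3] in
/-- An element of order three separating an elementary abelian 2-group of automorphisms from its conjugate. -/
theorem goodPair_psl2 [Fintype F] {n : ℕ} (hn1 : 1 ≤ n) (hF : Fintype.card F = 3 ^ (2 * n + 1))
    (B : Subgroup (MulAut PSL2F)) (hB : Cfsg.IsElementaryAbelian 2 B)
    (h3 : ∀ b ∈ B, ∀ y : PSL2F, orderOf y = 3 → b y ≠ y⁻¹) :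
    ∃ g : PSL2F, g ≠ 1 ∧ Odd (orderOf g) ∧ ∀ P : Subgroup (MulAut PSL2F), IsPGroup 2 P →
      B ≤ Subgroup.normalizer (P : Set (MulAut PSL2F)) →
      B.map (MulAut.conj (MulAut.conj g)).toMonoidHom ≤ Subgroup.normalizer (P : Set (MulAut PSL2F)) →
      B ⊓ P = ⊥ := by
  classical
  haveI : Fact (Nat.Prime 3) := ⟨Nat.prime_three⟩
  haveI : CharP F 3 := by
    obtain ⟨p, hp⟩ := CharP.exists F
    obtain ⟨k, hp', hk⟩ := FiniteField.card F p
    have h1 : p ∣ 3 ^ (2 * n + 1) := hF ▸ hk ▸ dvd_pow_self p k.pos.ne'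
    rwa [← (Nat.prime_dvd_prime_iff_eq hp' Nat.prime_three).1 (hp'.dvd_of_dvd_pow h1)]
  haveI := hB.1
  have hns : ¬ IsSquare (-1 : F) := by
    rw [FiniteField.isSquare_neg_one_iff, hF, pow_succ, pow_mul, Nat.mul_mod, Nat.pow_mod]
    norm_num
  have hbig : 27 ≤ Fintype.card F := by
    rw [hF]
    exact le_trans (by norm_num) (Nat.pow_le_pow_right (show 0 < 3 by norm_num) (show 3 ≤ 2 * n + 1 by omega))
  have hlift : ∀ b ∈ B, b ≠ 1 → ∃ J : SL2F, (J : M2F) * J = -1 ∧ b = cj J := fun b hb hb1 =>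
    exists_lift hF hns (hB.2 b hb) hb1 (h3 b hb)
  -- at most three involutions
  obtain ⟨S, hS, hBS⟩ : ∃ S : Finset (MulAut PSL2F), S.card ≤ 3 ∧ ∀ b ∈ B, b ≠ 1 → b ∈ S := by
    by_cases h1 : B = ⊥
    · exact ⟨∅, by simp, fun b hb hb1 => absurd (Subgroup.mem_bot.1 (h1 ▸ hb)) hb1⟩
    obtain ⟨b, hb, hb1⟩ := B.bot_or_exists_ne_one.resolve_left h1
    by_cases h2 : ∃ c ∈ B, c ≠ 1 ∧ c ≠ b
    · obtain ⟨c, hc, hc1, hcb⟩ := h2
      refine ⟨{b, c, b * c}, Finset.card_le_three, fun z hz hz1 => ?_⟩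
      by_contra hcon
      simp only [Finset.mem_insert, Finset.mem_singleton, not_or] at hcon
      obtain ⟨hzb, hzc, hzbc⟩ := hcon
      obtain ⟨J, hJ, rfl⟩ := hlift b hb hb1
      obtain ⟨K, hK, rfl⟩ := hlift c hc hc1
      obtain ⟨L, hL, rfl⟩ := hlift z hz hz1
      have hJK := anticommute hJ hK (setLike_mul_comm hb hc) hcb
      have hJL := anticommute hJ hL (setLike_mul_comm hb hz) hzb
      have hKL := anticommute hK hL (setLike_mul_comm hc hz) hzc
      refine hzbc ?_
      rw [← cj_mul]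
      refine cj_eq_of_commute ?_ hL ?_
      · rw [Matrix.SpecialLinearGroup.coe_mul]
        calc (J : M2F) * K * (J * K) = J * ((K : M2F) * J) * K := by simp only [Matrix.mul_assoc]
          _ = -((J : M2F) * J * ((K : M2F) * K)) := by
            rw [show (K : M2F) * J = -((J : M2F) * K) by rw [hJK, neg_neg]]
            simp only [Matrix.mul_neg, Matrix.neg_mul, Matrix.mul_assoc]
          _ = -1 := by rw [hJ, hK, neg_mul_neg, Matrix.one_mul]
      · rw [Matrix.SpecialLinearGroup.coe_mul]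
        calc (J : M2F) * K * L = J * ((K : M2F) * L) := Matrix.mul_assoc _ _ _
          _ = -((J : M2F) * L * K) := by rw [hKL]; simp only [Matrix.mul_neg, Matrix.mul_assoc]
          _ = _ := by rw [hJL]; simp only [Matrix.neg_mul, neg_neg, Matrix.mul_assoc]
    · push Not at h2
      exact ⟨{b}, by simp, fun z hz hz1 => Finset.mem_singleton.2 (h2 z hz hz1)⟩
  -- the unipotent element
  let co : MulAut PSL2F → F := fun b =>
    if h : ∃ J : SL2F, (J : M2F) * J = -1 ∧ b = cj J then (h.choose : M2F) 1 0 else 0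
  obtain ⟨t, ht⟩ : ∃ t : F, t ∉ insert (0 : F) (S.image (fun b => (co b)⁻¹) ∪ S.image (fun b => -(co b)⁻¹)) := by
    by_contra hcon
    push Not at hcon
    have h' := Finset.card_le_card (show (Finset.univ : Finset F) ⊆ _ from fun x _ => hcon x)
    rw [Finset.card_univ] at h'
    have h1 := Finset.card_insert_le (0 : F) (S.image (fun b => (co b)⁻¹) ∪ S.image (fun b => -(co b)⁻¹))
    have h2 := Finset.card_union_le (S.image (fun b => (co b)⁻¹)) (S.image (fun b => -(co b)⁻¹))
    have h4 := Finset.card_image_le (s := S) (f := fun b => (co b)⁻¹)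
    have h5 := Finset.card_image_le (s := S) (f := fun b => -(co b)⁻¹)
    omega
  simp only [Finset.mem_insert, Finset.mem_union, Finset.mem_image, not_or, not_exists, not_and] at ht
  obtain ⟨ht0, htp, htn⟩ := ht
  let U : SL2F := ⟨!![1, t; 0, 1], by simp [Matrix.det_fin_two]⟩
  have hU3 : U ^ 3 = 1 := by
    refine Subtype.ext ?_
    rw [Matrix.SpecialLinearGroup.coe_pow, Matrix.SpecialLinearGroup.coe_one, pow_three]
    ext i j
    fin_cases i <;> fin_cases j <;> simp [U, Matrix.mul_apply, Fin.sum_univ_two]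
    linear_combination t * three_zero (F := F)
  have hg1 : (QuotientGroup.mk U : PSL2F) ≠ 1 := fun h => by
    obtain ⟨r, -, hr⟩ := Matrix.SpecialLinearGroup.mem_center_iff.1 ((QuotientGroup.eq_one_iff U).1 h)
    have := congr_fun (congr_fun hr 0) 1
    simp [U] at this
    exact ht0 this.symm
  refine ⟨QuotientGroup.mk U, hg1, ?_, fun P hP hBP hB2P => ?_⟩
  · rw [orderOf_eq_prime (p := 3) (by rw [← QuotientGroup.mk_pow, hU3]; rfl) hg1]
    decide
  rw [Subgroup.eq_bot_iff_forall]
  intro b hb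
  obtain ⟨hbB, hbP⟩ := Subgroup.mem_inf.1 hb
  by_contra hb1
  have hex := hlift b hbB hb1
  have hco : co b = (hex.choose : M2F) 1 0 := dif_pos hex
  obtain ⟨hJ, hbJ⟩ := hex.choose_spec
  set J := hex.choose
  have hd := trace_zero hJ J.2
  have hdet := J.2
  rw [Matrix.det_fin_two, hd] at hdet
  have hc0 : co b ≠ 0 := fun h0 => hns ⟨(J : M2F) 0 0, by rw [← hco, h0] at hdet; linear_combination hdet⟩
  have hct : ∀ s : F, s * s = 1 → co b * t ≠ s := fun s hs h => by
    rcases mul_self_eq_one_iff.1 hs with rfl | rfl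
    · exact htp b (hBS b hbB hb1) (inv_eq_of_mul_eq_one_right h)
    · refine htn b (hBS b hbB hb1) ?_
      rw [neg_eq_iff_eq_neg]
      exact inv_eq_of_mul_eq_one_right (by rw [mul_neg, h, neg_neg])
  -- the product is a `2`-element
  have hb2 : MulAut.conj (QuotientGroup.mk U : PSL2F) * b * (MulAut.conj (QuotientGroup.mk U : PSL2F))⁻¹ =
      cj (U * J * U⁻¹) := by
    rw [hbJ, cj_mul, cj_mul, show cj U⁻¹ = (cj U)⁻¹ from eq_inv_of_mul_eq_one_left (by
      rw [← cj_mul, inv_mul_cancel]; exact map_one _)]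
    rfl
  have hQ : IsPGroup 2 (P ⊔ B.map (MulAut.conj (MulAut.conj (QuotientGroup.mk U : PSL2F))).toMonoidHom :
      Subgroup (MulAut PSL2F)) :=
    hP.to_sup_of_normal_left' (IsPGroup.map (fun x => ⟨1, Subtype.ext (by simpa using hB.2 x x.2)⟩) _) hB2P
  obtain ⟨k, hk⟩ := hQ ⟨b * (MulAut.conj (QuotientGroup.mk U : PSL2F) * b *
    (MulAut.conj (QuotientGroup.mk U : PSL2F))⁻¹),
    mul_mem (Subgroup.mem_sup_left hbP) (Subgroup.mem_sup_right ⟨b, hbB, rfl⟩)⟩
  have hk' := congrArg Subtype.val hk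
  rw [Subgroup.coe_pow, Subgroup.coe_one] at hk'
  simp only at hk'
  rw [hb2, hbJ, ← cj_mul] at hk'
  have hpow : ∀ (X : SL2F) (m : ℕ), cj X ^ m = cj (X ^ m) := fun X m => by
    induction m with
    | zero => simp only [pow_zero]; exact (map_one _).symm
    | succ m ih => rw [pow_succ, pow_succ, cj_mul, ih]
  rw [hpow] at hk'
  have h2 := cj_one hk'
  rw [Matrix.SpecialLinearGroup.coe_pow] at h2
  set h := ((J * (U * J * U⁻¹) : SL2F) : M2F) with hdef
  have hdh : h.det = 1 := (J * (U * J * U⁻¹)).2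
  have htr : h 0 0 + h 1 1 = -2 - co b * t * (co b * t) := by
    rw [hdef, hco]
    simp only [Matrix.SpecialLinearGroup.coe_mul, Matrix.SpecialLinearGroup.coe_inv, Matrix.adjugate_fin_two]
    rw [Matrix.eta_fin_two (J : M2F), hd]
    simp [U, Matrix.mul_fin_two]
    linear_combination -2 * hdet
  have h3' : (3 : F) = 0 := three_zero
  have hct0 : co b * t ≠ 0 := mul_ne_zero hc0 ht0
  rcases two_elem hns hdh k h2 with h4 | h4
  · obtain ⟨c, hc⟩ := sq_one h4 hdh
    rw [hc] at hdh
    rw [Matrix.det_smul, Matrix.det_one, mul_one, Fintype.card_fin, pow_two] at hdh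
    rw [hc] at htr
    simp at htr
    rcases mul_self_eq_one_iff.1 hdh with e | e
    · rw [e] at htr
      exact hns ⟨co b * t, by linear_combination -htr + h3'⟩
    · rw [e] at htr
      exact hct0 (mul_self_eq_zero.1 (by linear_combination htr))
  · have h5 := trace_zero h4 hdh
    exact hct (co b * t) (by rw [h5] at htr; linear_combination htr - h3') rfl

end CfsgLib.LocalEven.SFreeOffender
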