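import Cfsg.Agent.Lib.LocalEven.SFreeOffender.Units
import Cfsg.Agent.Lib.LocalEven.FixedFreeModels
import Cfsg.Agent.Lib.KnownB.SuzukiAut
import Cfsg.Agent.Lib.KnownC.AutPSL.Outer
import Cfsg.Agent.NumberTheory.PrimitivePart

/-!
The Suzuki groups provide units.
-/

set_option autoImplicit false
set_option linter.style.haveILetI false

namespace CfsgLib.LocalEven.SFreeOffender

open Cfsg.Lie CfsgLib.KnownB.SzElem CfsgLib.KnownB.Suzuki

variable {F : Type} [Field F] [Fintype F] {m : ℕ}

theorem goodSimple_suzuki (hm : 1 ≤ m) (hF : Fintype.card F = 2 ^ (2 * m + 1)) :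
    GoodSimple (Sz F (2 ^ (m + 1))) := by
  classical
  haveI : Fact (Nat.Prime 2) := ⟨Nat.prime_two⟩
  set he := twist_of_card (F := F) hF
  have hc := exists_pow_ne he hm hF
  set f := 2 * m + 1 with hf
  obtain ⟨r, hr, hrd, hrp⟩ := CfsgLib.NT.exists_primitive_prime (q := 2) (n := 4 * f) le_rfl (by omega)
    (by omega) (by omega)
  haveI : Fact r.Prime := ⟨hr⟩
  have hzero : ∀ k, r ∣ 2 ^ k - 1 ↔ (2 : ZMod r) ^ k = 1 := fun k => by
    rw [← ZMod.natCast_eq_zero_iff, Nat.cast_sub Nat.one_le_two_pow, Nat.cast_pow, Nat.cast_ofNat, Nat.cast_one,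
      sub_eq_zero]
  have hord : orderOf (2 : ZMod r) = 4 * f := by
    rw [orderOf_eq_iff (by omega)]
    exact ⟨(hzero _).1 hrd, fun k hk hk0 h => hrp k hk0 hk ((hzero k).2 h)⟩
  have hr5 : 5 ≤ r := by
    have h2 : (2 : ZMod r) ≠ 0 := fun h => by
      have := (hzero (4 * f)).1 hrd
      rw [h, zero_pow (by omega)] at this
      exact zero_ne_one this
    have := Nat.le_of_dvd (by have := hr.two_le; omega)
      (hord ▸ orderOf_dvd_of_pow_eq_one (ZMod.pow_card_sub_one_eq_one h2))
    omega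
  have hrq : r ∣ Fintype.card F ^ 2 + 1 := by
    have h1 : 2 ^ (4 * f) - 1 = (2 ^ (2 * f) + 1) * (2 ^ (2 * f) - 1) := by
      rw [show 4 * f = 2 * f * 2 by ring, pow_mul, ← one_pow 2, Nat.sq_sub_sq, one_pow]
    rw [h1] at hrd
    rcases hr.dvd_mul.1 hrd with h | h
    · rwa [hF, ← pow_mul, mul_comm f 2]
    · exact absurd h (hrp (2 * f) (by omega) (by omega))
  have hrcard : r ∣ Nat.card (Sz F (2 ^ (m + 1))) := by
    rw [card_Sz he]; exact hrq.mul_left _
  refine ⟨⟨r, hr, hr5, hrcard⟩, fun B hB hB1 _ => ?_⟩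
  -- involutory automorphisms are inner
  have hinner : ∀ b ∈ B, ∃ x : Sz F (2 ^ (m + 1)), x ^ 2 = 1 ∧ b = MulAut.conj x := by
    intro b hb
    obtain ⟨x, σ, rfl⟩ := exists_conj_fieldHom he hc (exists_unit_ne_one hm hF) b
    have hfc : ∀ (τ : F ≃+* F) (y : Sz F (2 ^ (m + 1))),
        fieldHom he τ * MulAut.conj y = MulAut.conj (fieldHom he τ y) * fieldHom he τ := fun τ y =>
      MulEquiv.ext fun z => by simp [MulAut.mul_apply]
    have h1 : MulAut.conj (x * fieldHom he σ x) * fieldHom he (σ * σ) = 1 := by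
      rw [map_mul (MulAut.conj), map_mul (fieldHom he), ← hB.2 _ hb, pow_two]
      simp only [mul_assoc]
      rw [← mul_assoc (fieldHom he σ) (MulAut.conj x), hfc]
      simp only [mul_assoc]
    have h2 : σ * σ = 1 := fieldHom_eq_one_of_inner he _ (x * fieldHom he σ x)⁻¹ (by
      rw [map_inv]; exact eq_inv_of_mul_eq_one_right h1)
    obtain ⟨φ⟩ := CfsgLib.KnownC.AutPSL.ringAut_cyclic (F := F) hF
    have hodd : σ ^ f = 1 := φ.injective (by
      rw [map_pow, map_one]
      have h3 := pow_card_eq_one' (G := Multiplicative (ZMod f)) (x := φ σ)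
      rwa [Nat.card_congr Multiplicative.toAdd, Nat.card_zmod] at h3)
    have hσ : σ = 1 := by
      rw [hf, pow_succ, pow_mul, pow_two, h2, one_pow, one_mul] at hodd
      exact hodd
    subst hσ
    refine ⟨x, ?_, by rw [map_one, mul_one]⟩
    have h4 : MulAut.conj (x ^ 2) = 1 := by
      rw [map_pow, ← hB.2 _ hb, map_one, mul_one]
    haveI := isSimpleGroup he (exists_unit_ne_one hm hF)
    have h5 : x ^ 2 ∈ Subgroup.center (Sz F (2 ^ (m + 1))) := Subgroup.mem_center_iff.2 fun g =>
      (mul_inv_eq_iff_eq_mul.1 (DFunLike.congr_fun h4 g)).symm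
    have h6 : Subgroup.center (Sz F (2 ^ (m + 1))) = ⊥ := by
      rcases (inferInstance : (Subgroup.center (Sz F (2 ^ (m + 1)))).Normal).eq_bot_or_eq_top with h | h
      · exact h
      · exfalso
        have h7 := commutator_eq_top he (exists_unit_ne_one hm hF)
        have h8 : (⊤ : Subgroup (Sz F (2 ^ (m + 1)))) ≤ ⊥ := by
          conv_lhs => rw [← h7]
          rw [commutator_def, Subgroup.commutator_le]
          intro a _ b _
          rw [Subgroup.mem_bot, commutatorElement_eq_one_iff_mul_comm]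
          exact (Subgroup.mem_center_iff.1 (h ▸ Subgroup.mem_top b) a)
        obtain ⟨u, hu⟩ := exists_unit_ne_one hm hF
        refine hu ?_
        have h9 : H _ he u = H _ he 1 :=
          (Subgroup.mem_bot.1 (h8 (Subgroup.mem_top _))).trans (Subgroup.mem_bot.1 (h8 (Subgroup.mem_top _))).symm
        by_contra hu'
        exact (fun hinj => hu' hinj) ((borel_inj he (a := 0) (b := 0) (c := 0) (d := 0) (s := u) (t := 1)
          (by rw [h9])).2.2)
    rw [h6, Subgroup.mem_bot] at h5
    exact h5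
  -- the elements inducing `B`
  set B0 := B.comap (MulAut.conj : Sz F (2 ^ (m + 1)) →* MulAut (Sz F (2 ^ (m + 1)))) with hB0
  obtain ⟨b, hb, hb1⟩ := B.bot_or_exists_ne_one.resolve_left hB1
  obtain ⟨x, hx2, rfl⟩ := hinner b hb
  obtain ⟨g, hg⟩ := FixedFreeModels.involution_conj_z he hx2
  have hzone : g * x * g⁻¹ ≠ 1 := fun h => hb1 (by rw [conj_eq_one_iff.1 h, map_one])
  have hle : Nat.card B ≤ Fintype.card F := by
    let φ : B → zGroup he := fun c =>
      ⟨g * (hinner c c.2).choose * g⁻¹, by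
        obtain ⟨hy2, hyc⟩ := (hinner c c.2).choose_spec
        set y := (hinner c c.2).choose
        haveI := hB.1
        have hconj : MulAut.conj (y * x) = MulAut.conj (x * y) := by
          rw [map_mul, map_mul, ← hyc]
          exact setLike_mul_comm c.2 hb
        have hyx : g * y * g⁻¹ * (g * x * g⁻¹) = g * x * g⁻¹ * (g * y * g⁻¹) := by
          have hz : ∀ z, y * x * z * (y * x)⁻¹ = x * y * z * (x * y)⁻¹ := fun z => DFunLike.congr_fun hconj z
          have hcz : (x * y)⁻¹ * (y * x) ∈ Subgroup.center (Sz F (2 ^ (m + 1))) := Subgroup.mem_center_iff.2 fun z => by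
            calc z * ((x * y)⁻¹ * (y * x)) = (x * y)⁻¹ * ((x * y * z * (x * y)⁻¹) * (y * x)) := by group
              _ = (x * y)⁻¹ * ((y * x * z * (y * x)⁻¹) * (y * x)) := by rw [hz]
              _ = _ := by group
          haveI := isSimpleGroup he (exists_unit_ne_one hm hF)
          rcases (inferInstance : (Subgroup.center (Sz F (2 ^ (m + 1)))).Normal).eq_bot_or_eq_top with h | h
          · rw [h, Subgroup.mem_bot, inv_mul_eq_one] at hcz
            calc g * y * g⁻¹ * (g * x * g⁻¹) = g * (y * x) * g⁻¹ := by group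
              _ = g * (x * y) * g⁻¹ := by rw [hcz]
              _ = _ := by group
          · exact Subgroup.mem_center_iff.1 (h ▸ Subgroup.mem_top _) _
        have hu := centralizer_le_uGroup he (FixedFreeModels.zGroup_le_uGroup he hg) hzone
          (Subgroup.mem_centralizer_singleton_iff.2 hyx)
        obtain ⟨⟨p, q⟩, hpq⟩ := hu
        refine ⟨q, ?_⟩
        have hsq : (P he p q) * P he p q = 1 := by
          simp only at hpq
          rw [hpq, show g * y * g⁻¹ * (g * y * g⁻¹) = g * y ^ 2 * g⁻¹ by rw [pow_two]; group, hy2]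
          group
        rw [P_mul, ← P_zero he] at hsq
        have h2 := he.two
        have hp := (P_injective he hsq).2
        have hp0 : p = 0 := by
          have e1 : p ^ 2 ^ (m + 1) * p = 0 := by linear_combination hp - q * h2
          rcases mul_eq_zero.1 e1 with h | h
          · exact pow_eq_zero_iff (Nat.ne_zero_of_lt he.one_lt) |>.1 h
          · exact h
        simp only at hpq
        rw [← hpq, hp0]⟩
    have hinj : Function.Injective φ := fun c d h => Subtype.ext (by
      have h' : g * (hinner c c.2).choose * g⁻¹ = g * (hinner d d.2).choose * g⁻¹ := congrArg Subtype.val h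
      rw [(hinner c c.2).choose_spec.2, (hinner d d.2).choose_spec.2, mul_left_cancel (mul_right_cancel h')])
    refine (Nat.card_le_card_of_injective φ hinj).trans ?_
    rw [← Nat.card_eq_fintype_card]
    exact Nat.card_le_card_of_surjective (fun q : F => (⟨P he 0 q, q, rfl⟩ : zGroup he))
      fun z => by obtain ⟨z, q, rfl⟩ := z; exact ⟨q, rfl⟩
  obtain ⟨y, hy⟩ := exists_prime_orderOf_dvd_card' r hrcard
  obtain ⟨t, ht2, hty⟩ := FixedFreeModels.inverted hF (x := y) (fun ⟨k, hk⟩ => by
    rw [hy] at hk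
    rcases Nat.eq_zero_or_pos k with rfl | hk0
    · rw [pow_zero] at hk; omega
    · have h2 : 2 ∣ r := hk ▸ dvd_pow_self 2 hk0.ne'
      have := (Nat.prime_dvd_prime_iff_eq Nat.prime_two hr).1 h2
      omega)
  have ht1 : t ≠ 1 := fun h => by
    rw [h, one_mul, inv_one, mul_one] at hty
    have h1 : y ^ 2 = 1 := by
      rw [pow_two]
      conv_lhs => arg 2; rw [hty]
      exact mul_inv_cancel y
    have := Nat.le_of_dvd two_pos (hy ▸ orderOf_dvd_of_pow_eq_one h1)
    omega
  obtain ⟨g', hg'⟩ := FixedFreeModels.involution_conj_z he ht2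
  have ht'1 : g' * t * g'⁻¹ ≠ 1 := fun h => ht1 (conj_eq_one_iff.1 h)
  obtain ⟨p, hp⟩ := hg
  obtain ⟨q, hq⟩ := hg'
  simp only at hp hq
  have hp0 : p ≠ 0 := fun h => hzone (by rw [← hp, h, P_zero])
  have hq0 : q ≠ 0 := fun h => ht'1 (by rw [← hq, h, P_zero])
  obtain ⟨s, hs⟩ := (units_pow_e2_bijective he).2 (Units.mk0 p hp0 / Units.mk0 q hq0)
  have hconj : H _ he s * (g' * t * g'⁻¹) * (H _ he s)⁻¹ = g * x * g⁻¹ := by
    rw [← hq, H_conj_P, mul_zero, ← hp]
    congr 1
    have := congrArg Units.val hs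
    simp only [Units.val_pow_eq_pow_val, Units.val_div_eq_div_val, Units.val_mk0] at this
    rw [this, div_mul_cancel₀ _ hq0]
  set k := g⁻¹ * H _ he s * g' with hk
  have hkt : k * t * k⁻¹ = x := by
    calc k * t * k⁻¹ = g⁻¹ * (H _ he s * (g' * t * g'⁻¹) * (H _ he s)⁻¹) * g := by rw [hk]; group
      _ = x := by rw [hconj]; group
  refine ⟨⊥, MulAut.conj x, k * y * k⁻¹, r, bot_le, hb, hb1, hr, hr5,
    by rw [show k * y * k⁻¹ = MulAut.conj k y from rfl, MulEquiv.orderOf_eq, hy], ?_,
    fun h hh => by rw [Subgroup.mem_bot.1 hh]; rfl, Or.inr ?_⟩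
  · rw [MulAut.conj_apply, ← hkt]
    calc k * t * k⁻¹ * (k * y * k⁻¹) * (k * t * k⁻¹)⁻¹ = k * (t * y * t⁻¹) * k⁻¹ := by group
      _ = _ := by rw [hty]; group
  · rw [Subgroup.relIndex_bot_left, hord, mul_comm 4 f, pow_mul, ← hF]
    exact Nat.pow_le_pow_left hle 4

end CfsgLib.LocalEven.SFreeOffender
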