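import Cfsg.Agent.Lib.LocalEven.SFreeOffender.Module
import Cfsg.Agent.Lib.LocalEven.SFreeOffender.Layer
import Cfsg.Agent.Lib.LocalEven.SFreeOffender.Suzuki
import Cfsg.Agent.Lib.LocalEven.SFreeOffender.PSL2
import Cfsg.Agent.Lib.Classical.Dickson.MinimalSimple
import Cfsg.Agent.S0251

/-!
Offender bound for `S₃`-free linear groups with known composition factors.
-/

set_option autoImplicit false
set_option linter.style.haveILetI false

namespace CfsgLib.LocalEven.SFreeOffender

open Subgroup CfsgLib.Components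
open scoped commutatorElement

universe u

/-- The simple groups allowed provide units. -/
theorem goodSimple_of_known {X : Type u} [Group X] [IsSimpleGroup X] (hnc : ¬ IsMulCommutative X)
    (h : Cfsg.IsSuzukiOrPSL2OddPowerThree X) : GoodSimple X := by
  rcases h with ⟨F, _, _, m, hm, hF, ⟨e⟩⟩ | ⟨F, _, _, n, hF, ⟨e⟩⟩
  · exact (goodSimple_suzuki hm hF).of_mulEquiv e.symm
  · rcases Nat.eq_zero_or_pos n with rfl | hn
    · exfalso
      obtain ⟨f⟩ := Cfsg.Agent.S0251.result (F := F) (by simpa using hF)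
      haveI := CfsgLib.Classical.Dickson.solvable_alt_four
      haveI : Group.IsSolvable X := solvable_of_solvable_injective (f := (e.trans f).toMonoidHom) (e.trans f).injective
      exact hnc ⟨⟨IsSimpleGroup.comm_iff_isSolvable.2 inferInstance⟩⟩
    · exact (goodSimple_psl2 hn hF).of_mulEquiv e.symm

variable {L : Type u} [Group L] [Finite L]

/-- Every nontrivial elementary abelian 2-subgroup has a unit. -/
theorem exists_unit {G : Type u} [Group G] [Finite G] (h2 : Cfsg.pCore 2 G = ⊥)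
    (hS : ¬ Cfsg.Involves (Equiv.Perm (Fin 3)) G)
    (hc : Cfsg.IsCompositionKGroupWith Cfsg.IsSuzukiOrPSL2OddPowerThree G)
    {A : Subgroup G} (hA : Cfsg.IsElementaryAbelian 2 A) (hne : A ≠ ⊥) : HasUnit A := by
  by_cases hAF : A ≤ centralizer (Cfsg.fittingSubgroup G : Set G)
  · obtain ⟨K, hK, hAK⟩ : ∃ K : Subgroup G, Cfsg.IsComponent K ∧ ¬ A ≤ centralizer (K : Set G) := by
      by_contra hcon
      push Not at hcon
      refine hne ?_
      have h1 : A ≤ centralizer (Cfsg.generalizedFittingSubgroup G : Set G) := by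
        rw [le_centralizer_iff]
        refine sup_le (sSup_le ?_) (le_centralizer_iff.1 hAF)
        intro K hK
        have h' := hcon K hK
        exact le_centralizer_iff.1 h'
      have h3 := h1.trans centralizer_generalizedFitting_le_fitting
      rw [Subgroup.eq_bot_iff_forall]
      intro a ha
      by_contra ha1
      haveI : Fact (Nat.Prime 2) := ⟨Nat.prime_two⟩
      exact Nat.not_even_iff_odd.2 (odd_card_fitting h2)
        (even_iff_two_dvd.2 (orderOf_eq_prime (p := 2) (hA.2 a ha) ha1 ▸ orderOf_dvd_natCard _ (h3 ha)))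
    haveI := hK.2.2
    refine hasUnit_of_component h2 hS hA hAF hK ?_ hAK
    have hnc : ¬ IsMulCommutative (K ⧸ center K) := fun hcm => by
      haveI := hK.2.1
      have hle : commutator K ≤ center K := by
        rw [← Subgroup.Normal.quotient_commutative_iff_commutator_le]
        exact ⟨hcm.is_comm⟩
      have htop : center K = ⊤ := top_le_iff.1 ((Group.isPerfect_def.1 hK.2.1).symm.le.trans hle)
      have hss : Subsingleton (K ⧸ center K) := by rw [htop]; exact QuotientGroup.subsingleton_quotient_top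
      exact false_of_nontrivial_of_subsingleton (K ⧸ center K)
    exact goodSimple_of_known hnc (hc K hK.1 (center K) inferInstance hnc)
  · exact hasUnit_of_fitting h2 hS hA hAF

/-- The offender bound, by induction on the subgroup. -/
theorem offender_bound {M G : Subgroup L} (hM : Cfsg.IsElementaryAbelian 2 M)
    (hGM : G ≤ normalizer (M : Set L)) (hf : G ⊓ centralizer (M : Set L) = ⊥)
    (h2 : Cfsg.pCore 2 G = ⊥) (hS : ¬ Cfsg.Involves (Equiv.Perm (Fin 3)) G)
    (hc : Cfsg.IsCompositionKGroupWith Cfsg.IsSuzukiOrPSL2OddPowerThree G) :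
    ∀ A : Subgroup L, A ≤ G → Cfsg.IsElementaryAbelian 2 A →
      Nat.card A ^ 2 * Nat.card ↥(M ⊓ centralizer (A : Set L)) ≤ Nat.card M ∧
        Nat.card A ^ 2 ≤ Nat.card ↥⁅M, A⁆ := by
  intro A
  induction hn : Nat.card A using Nat.strong_induction_on generalizing A with
  | _ n ih => ?_
  subst hn
  intro hAG hA
  rcases eq_or_ne A ⊥ with rfl | hA1
  · rw [Subgroup.card_bot, one_pow, one_mul]
    exact ⟨Subgroup.card_le_of_le inf_le_left, Nat.card_pos⟩
  have hA' : Cfsg.IsElementaryAbelian 2 (A.subgroupOf G) := by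
    haveI := hA.1
    exact ⟨⟨⟨fun a b => Subtype.ext (Subtype.ext (setLike_mul_comm (s := A) a.2 b.2))⟩⟩,
      fun x hx => Subtype.ext (hA.2 _ hx)⟩
  obtain ⟨E', a, x, r, hEA, haA, haE, hr, hr5, hx, hax, hEx, hi⟩ :=
    exists_unit h2 hS hc hA' fun h => hA1 (by
      rw [subgroupOf_eq_bot] at h
      exact le_bot_iff.1 ((le_inf le_rfl hAG).trans (disjoint_iff_inf_le.1 h)))
  set E := E'.map G.subtype with hEdef
  have hEA' : E ≤ A := by rintro _ ⟨e, he, rfl⟩; exact hEA he
  have hlt : Nat.card E < Nat.card A := by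
    refine lt_of_le_of_ne (Subgroup.card_le_of_le hEA') fun he => haE ?_
    obtain ⟨e, he', hea⟩ : (a : L) ∈ E := (Subgroup.eq_of_le_of_card_ge hEA' he.ge).symm ▸ haA
    rwa [← Subtype.ext hea]
  have hEe : Cfsg.IsElementaryAbelian 2 E := by
    haveI := hA.1
    exact ⟨⟨⟨fun p q => Subtype.ext (setLike_mul_comm (hEA' p.2) (hEA' q.2))⟩⟩, fun p hp => hA.2 p (hEA' hp)⟩
  obtain ⟨h1, h2'⟩ := ih _ hlt E rfl (hEA'.trans hAG) hEe
  have hxord : orderOf (x : L) = r := by rw [Subgroup.orderOf_coe]; exact hx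
  have hxC : (x : L) ∉ centralizer (M : Set L) := fun h => by
    have h' := hf ▸ mem_inf.2 ⟨x.2, h⟩
    rw [mem_bot.1 h', orderOf_one] at hxord
    omega
  obtain ⟨⟨d, hd, hd1⟩, ⟨d', hd', hd2⟩⟩ := step hM hA (hAG.trans hGM) hEA' haA hr (by omega) hxord
    (hGM x.2) hxC (show (a : L) * x * (a : L)⁻¹ = (x : L)⁻¹ from congrArg Subtype.val hax) (fun h hh => by
      obtain ⟨e, he, rfl⟩ := hh
      exact congrArg Subtype.val (hEx e he))
  set i := E'.relIndex (A.subgroupOf G) with hidef
  have hidx : i * Nat.card E = Nat.card A := by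
    rw [hEdef, Subgroup.card_map_of_injective (subtype_injective G), mul_comm, hidef,
      ← Nat.card_congr (Subgroup.subgroupOfEquivOfLe hEA).toEquiv, Subgroup.relIndex,
      Subgroup.card_mul_index, Nat.card_congr (Subgroup.subgroupOfEquivOfLe hAG).toEquiv]
  have hord : 3 ≤ orderOf (2 : ZMod r) := by
    haveI : Fact r.Prime := ⟨hr⟩
    have h20 : (2 : ZMod r) ≠ 0 := fun h => by
      have h' : ((2 : ℕ) : ZMod r) = 0 := by exact_mod_cast h
      have := Nat.le_of_dvd two_pos ((ZMod.natCast_eq_zero_iff 2 r).1 h')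
      omega
    have hpos : 0 < orderOf (2 : ZMod r) :=
      orderOf_pos_iff.2 (isOfFinOrder_iff_pow_eq_one.2 ⟨r - 1, by omega, ZMod.pow_card_sub_one_eq_one h20⟩)
    by_contra hlt'
    have hp := pow_orderOf_eq_one (2 : ZMod r)
    have hcast : ∀ k : ℕ, (2 : ZMod r) ^ k = 1 → r ∣ 2 ^ k - 1 := fun k hk => by
      rw [← ZMod.natCast_eq_zero_iff, Nat.cast_sub Nat.one_le_two_pow, Nat.cast_pow, Nat.cast_ofNat, hk,
        Nat.cast_one, sub_self]
    have h' := hcast _ hp
    interval_cases orderOf (2 : ZMod r)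
    · have := Nat.le_of_dvd (by norm_num) h'; omega
    · have := Nat.le_of_dvd (by norm_num) h'; omega
  have key : ∀ e : ℕ, orderOf (2 : ZMod r) ≤ 2 * e → i ^ 2 ≤ 2 ^ e := fun e he => by
    rcases hi with h | h
    · rw [h]
      exact Nat.pow_le_pow_right two_pos (by omega)
    · refine (Nat.pow_le_pow_iff_left two_ne_zero).1 ?_
      rw [← pow_mul, ← pow_mul]
      exact h.trans (Nat.pow_le_pow_right two_pos (by omega))
  constructor
  · calc Nat.card A ^ 2 * Nat.card ↥(M ⊓ centralizer (A : Set L))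
        = Nat.card E ^ 2 * (i ^ 2 * Nat.card ↥(M ⊓ centralizer (A : Set L))) := by rw [← hidx]; ring
      _ ≤ Nat.card E ^ 2 * (2 ^ d * Nat.card ↥(M ⊓ centralizer (A : Set L))) :=
        Nat.mul_le_mul_left _ (Nat.mul_le_mul_right _ (key d hd))
      _ ≤ Nat.card E ^ 2 * Nat.card ↥(M ⊓ centralizer (E : Set L)) := Nat.mul_le_mul_left _ hd1
      _ ≤ Nat.card M := h1
  · calc Nat.card A ^ 2 = i ^ 2 * Nat.card E ^ 2 := by rw [← hidx]; ring
      _ ≤ 2 ^ d' * Nat.card ↥⁅M, E⁆ := Nat.mul_le_mul (key d' hd') h2'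
      _ ≤ Nat.card ↥⁅M, A⁆ := hd2

end CfsgLib.LocalEven.SFreeOffender
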