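import Cfsg.Prelude.Def_LocalEven
import Cfsg.Agent.Lib.Coprime.Abelian
import Cfsg.Agent.Lib.Coprime.Action
import Mathlib.GroupTheory.PGroup
import Mathlib.GroupTheory.OrderOfElement

/-!
An involution inverting an element of prime order `r` centralised by a subgroup `E` of a 2-group moves a
module at least half the multiplicative order of 2 modulo `r` beyond `E`.
-/

set_option autoImplicit false
set_option linter.style.haveILetI false
set_option linter.unusedSectionVars false

namespace CfsgLib.LocalEven.SFreeOffender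

open Subgroup
open scoped commutatorElement

variable {L : Type*} [Group L] [Finite L]

theorem card_mul_relIndex {H K : Subgroup L} (h : H ≤ K) :
    Nat.card H * H.relIndex K = Nat.card K := by
  have := relIndex_mul_relIndex ⊥ H K bot_le h
  rwa [relIndex_bot_left, relIndex_bot_left] at this

theorem orderOf_two_dvd {r k : ℕ} (h : 2 ^ k ≡ 1 [MOD r]) : orderOf (2 : ZMod r) ∣ k := by
  rw [orderOf_dvd_iff_pow_eq_one]
  have := (ZMod.natCast_eq_natCast_iff _ _ _).2 h
  simpa using this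

/-- A two-group inside an elementary abelian one has two-power order. -/
theorem exists_card {M U : Subgroup L} (hM : Cfsg.IsElementaryAbelian 2 M) (hU : U ≤ M) :
    ∃ k, Nat.card U = 2 ^ k := by
  haveI : Fact (Nat.Prime 2) := ⟨Nat.prime_two⟩
  exact IsPGroup.iff_card.1 fun u => ⟨1, Subtype.ext (by simpa using hM.2 u (hU u.2))⟩

/-- Fixed-point-free action of a group of prime order. -/
theorem card_modEq {M U : Subgroup L} {x : L} {r : ℕ} [Fact r.Prime] (hU : U ≤ M)
    (hx : orderOf x = r) (hn : x ∈ normalizer (U : Set L))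
    (hfix : M ⊓ centralizer ({x} : Set L) ⊓ U = ⊥) : Nat.card U ≡ 1 [MOD r] := by
  let f : zpowers x →* MulAut U := Coprime.conjHom (zpowers_le.2 hn)
  letI : MulAction (zpowers x) U := MulAction.compHom U f
  have hP : IsPGroup r (zpowers x) := IsPGroup.of_card (n := 1) (by rw [Nat.card_zpowers, hx, pow_one])
  refine (hP.card_modEq_card_fixedPoints U).trans ?_
  have : Nat.card (MulAction.fixedPoints (zpowers x) U) = 1 := by
    rw [Nat.card_eq_one_iff_unique]
    refine ⟨⟨fun u v => ?_⟩, ⟨⟨1, fun z => map_one (f z)⟩⟩⟩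
    suffices h : ∀ w : MulAction.fixedPoints (zpowers x) U, ((w : U) : L) = 1 from
      Subtype.ext (Subtype.ext ((h u).trans (h v).symm))
    intro w
    have h1 := congrArg Subtype.val (w.2 ⟨x, mem_zpowers x⟩)
    have h2 : x * ((w : U) : L) * x⁻¹ = ((w : U) : L) := h1
    rw [← mem_bot (G := L), ← hfix]
    exact mem_inf.2 ⟨mem_inf.2 ⟨hU (w : U).2, mem_centralizer_singleton_iff.2
      (mul_inv_eq_iff_eq_mul.1 h2).symm⟩, (w : U).2⟩
  rw [this]

/-- An involution inverting a fixed-point-free element has a fixed space of half size, inside its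
commutator. -/
theorem half {M U : Subgroup L} {a x : L} {r : ℕ} (hM : Cfsg.IsElementaryAbelian 2 M) (hU : U ≤ M)
    (hr : r.Prime) (hr2 : r ≠ 2) (hxr : orderOf x = r) (ha : a * a = 1) (hax : a * x * a⁻¹ = x⁻¹)
    (hx : x ∈ normalizer (U : Set L)) (hau : a ∈ normalizer (U : Set L))
    (hfix : M ⊓ centralizer ({x} : Set L) ⊓ U = ⊥) :
    Nat.card ↥(U ⊓ centralizer ({a} : Set L)) ^ 2 = Nat.card U ∧
      U ⊓ centralizer ({a} : Set L) ≤ ⁅U, zpowers a⁆ := by
  classical
  set C := U ⊓ centralizer ({a} : Set L) with hC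
  haveI := hM.1
  have hcomm : ∀ {p q : L}, p ∈ U → q ∈ U → p * q = q * p := fun hp hq =>
    setLike_mul_comm (hU hp) (hU hq)
  have hinv : ∀ {p : L}, p ∈ U → p⁻¹ = p := fun {p} hp =>
    inv_eq_of_mul_eq_one_right (by rw [← pow_two]; exact hM.2 p (hU hp))
  have hai : a⁻¹ = a := inv_eq_of_mul_eq_one_right ha
  let cj : U →* U := ((Coprime.conjHom (A := zpowers a) (zpowers_le.2 hau)) ⟨a, mem_zpowers a⟩).toMonoidHom
  let f : U →* U := MonoidHom.mk' (fun u => u * cj u) fun u v => by
    rw [map_mul]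
    apply Subtype.ext
    simp only [Subgroup.coe_mul]
    have h := hcomm v.2 (cj u).2
    simp only [mul_assoc]
    rw [← mul_assoc (v : L), h, mul_assoc]
  have hfv : ∀ u : U, (f u : L) = u * (a * u * a⁻¹) := fun u => rfl
  have himg : f.range.map U.subtype ≤ C := by
    rintro _ ⟨_, ⟨u, rfl⟩, rfl⟩
    refine mem_inf.2 ⟨(f u).2, mem_centralizer_singleton_iff.2 ?_⟩
    have h1 : a * (u : L) * a⁻¹ ∈ U := (cj u).2
    rw [coe_subtype, hfv]
    refine (mul_inv_eq_iff_eq_mul.1 ?_).symm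
    calc a * ((u : L) * (a * u * a⁻¹)) * a⁻¹ = (a * u * a⁻¹) * ((a * a) * u * (a * a)⁻¹) := by group
      _ = (a * u * a⁻¹) * u := by rw [ha]; group
      _ = _ := hcomm h1 u.2
  have hker : f.ker.map U.subtype = C := by
    ext u
    constructor
    · rintro ⟨v, hv, rfl⟩
      refine mem_inf.2 ⟨v.2, mem_centralizer_singleton_iff.2 ?_⟩
      have h1 : (v : L) * (a * v * a⁻¹) = 1 := congrArg Subtype.val hv
      have h2 := (inv_eq_of_mul_eq_one_right h1).symm
      rw [hinv v.2] at h2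
      exact (mul_inv_eq_iff_eq_mul.1 h2).symm
    · intro hu
      obtain ⟨hu, hua⟩ := mem_inf.1 hu
      refine ⟨⟨u, hu⟩, ?_, rfl⟩
      refine Subtype.ext ?_
      rw [hfv]
      have : u * a = a * u := mem_centralizer_singleton_iff.1 hua
      show u * (a * u * a⁻¹) = 1
      rw [← this, mul_inv_cancel_right, ← pow_two]
      exact hM.2 u (hU hu)
  have hcard : Nat.card U = Nat.card C * Nat.card ↥(f.range.map U.subtype) := by
    rw [← hker, card_map_of_injective U.subtype_injective, card_map_of_injective U.subtype_injective,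
      ← index_ker, card_mul_index]
  have hx2 : ∀ u ∈ C, x * u * x⁻¹ ∈ C → u = 1 := by
    intro u hu hu'
    obtain ⟨huU, hua⟩ := mem_inf.1 hu
    have e1 : u * a = a * u := mem_centralizer_singleton_iff.1 hua
    have e2 : (x * u * x⁻¹) * a = a * (x * u * x⁻¹) := mem_centralizer_singleton_iff.1 (mem_inf.1 hu').2
    have e3 : a * (x * u * x⁻¹) * a⁻¹ = x⁻¹ * u * x := by
      calc a * (x * u * x⁻¹) * a⁻¹ = (a * x * a⁻¹) * (a * u * a⁻¹) * (a * x * a⁻¹)⁻¹ := by group
        _ = x⁻¹ * u * x := by rw [hax, ← e1, mul_inv_cancel_right, inv_inv]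
    have e4 : x⁻¹ * u * x = x * u * x⁻¹ := by rw [← e3, ← e2, mul_inv_cancel_right]
    have e5 : (x ^ 2) * u = u * x ^ 2 := by
      calc x ^ 2 * u = x * (x * u * x⁻¹) * x := by rw [pow_two]; group
        _ = x * (x⁻¹ * u * x) * x := by rw [e4]
        _ = u * x ^ 2 := by rw [pow_two]; group
    obtain ⟨i, hi⟩ : ∃ i : ℕ, (x ^ 2) ^ i = x := by
      obtain ⟨j, hj⟩ := hr.eq_two_or_odd'.resolve_left hr2
      refine ⟨j + 1, ?_⟩
      rw [← pow_mul, show 2 * (j + 1) = r + 1 by omega, pow_succ, ← hxr, pow_orderOf_eq_one, one_mul]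
    have e6 : x * u = u * x := by rw [← hi]; exact ((show Commute (x ^ 2) u from e5).pow_left i).eq
    rw [← mem_bot (G := L), ← hfix]
    exact mem_inf.2 ⟨mem_inf.2 ⟨hU huU, mem_centralizer_singleton_iff.2 e6.symm⟩, huU⟩
  have hxC : ∀ d ∈ C, x * d * x⁻¹ ∈ U := fun d hd => (Subgroup.mem_normalizer_iff.1 hx d).1 (mem_inf.1 hd).1
  have hinj : Function.Injective (fun q : C × C =>
      (⟨(q.1 : L) * (x * q.2 * x⁻¹), mul_mem (mem_inf.1 q.1.2).1 (hxC _ q.2.2)⟩ : U)) := by
    rintro ⟨c, d⟩ ⟨c', d'⟩ h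
    have h1 : (c : L) * (x * d * x⁻¹) = c' * (x * d' * x⁻¹) := congrArg Subtype.val h
    have h2 : x * ((d : L) * (d' : L)⁻¹) * x⁻¹ = (c : L)⁻¹ * c' := by
      calc x * ((d : L) * (d' : L)⁻¹) * x⁻¹ = (c : L)⁻¹ * ((c : L) * (x * d * x⁻¹)) * (x * d' * x⁻¹)⁻¹ := by group
        _ = _ := by rw [h1]; group
    have hd : (d : L) * (d' : L)⁻¹ = 1 := hx2 _ (mul_mem d.2 (inv_mem d'.2))
      (h2 ▸ mul_mem (inv_mem c.2) c'.2)
    have hd' : d = d' := Subtype.ext (mul_inv_eq_one.1 hd)
    subst hd'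
    exact Prod.ext (Subtype.ext (mul_right_cancel h1)) rfl
  have hle : Nat.card C * Nat.card C ≤ Nat.card U :=
    (Nat.card_prod C C).symm.trans_le (Nat.card_le_card_of_injective _ hinj)
  rw [hcard] at hle
  have hge : Nat.card C ≤ Nat.card ↥(f.range.map U.subtype) :=
    Nat.le_of_mul_le_mul_left hle Nat.card_pos
  have heq : f.range.map U.subtype = C := eq_of_le_of_card_ge himg hge
  refine ⟨by rw [hcard, heq, pow_two], fun c hc => ?_⟩
  rw [← heq] at hc
  obtain ⟨_, ⟨u, rfl⟩, rfl⟩ := hc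
  rw [coe_subtype, hfv]
  have h1 : (u : L) * (a * u * a⁻¹) = ⁅(u : L), a⁆ := by
    rw [commutatorElement_def, hinv u.2]; group
  rw [h1]
  exact commutator_mem_commutator u.2 (mem_zpowers a)

/-- Elements of a product inside an abelian group. -/
theorem exists_mul {M P Q : Subgroup L} [IsMulCommutative M] (hP : P ≤ M) (hQ : Q ≤ M) {m : L}
    (hm : m ∈ P ⊔ Q) : ∃ w ∈ P, ∃ y ∈ Q, w * y = m := by
  have hn : P ≤ normalizer (Q : Set L) := fun p hp =>
    centralizer_le_normalizer _ (mem_centralizer_iff.2 fun q hq => setLike_mul_comm (hQ hq) (hP hp))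
  exact Set.mem_mul.1 (by rw [← coe_mul_of_left_le_normalizer_right P Q hn]; exact hm)

/-- The gain of one step. -/
theorem step {M E A : Subgroup L} {a x : L} {r : ℕ} (hM : Cfsg.IsElementaryAbelian 2 M)
    (hA : Cfsg.IsElementaryAbelian 2 A) (hAM : A ≤ normalizer (M : Set L)) (hEA : E ≤ A) (haA : a ∈ A)
    (hr : r.Prime) (hr2 : r ≠ 2) (hxr : orderOf x = r) (hxM : x ∈ normalizer (M : Set L))
    (hxC : x ∉ centralizer (M : Set L)) (hax : a * x * a⁻¹ = x⁻¹) (hEx : ∀ h ∈ E, h * x = x * h) :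
    (∃ d, orderOf (2 : ZMod r) ≤ 2 * d ∧
      2 ^ d * Nat.card ↥(M ⊓ centralizer (A : Set L)) ≤ Nat.card ↥(M ⊓ centralizer (E : Set L))) ∧
    ∃ d, orderOf (2 : ZMod r) ≤ 2 * d ∧ 2 ^ d * Nat.card ↥⁅M, E⁆ ≤ Nat.card ↥⁅M, A⁆ := by
  classical
  haveI : Fact (Nat.Prime 2) := ⟨Nat.prime_two⟩
  haveI : Fact r.Prime := ⟨hr⟩
  haveI := hM.1
  haveI := hA.1
  have hMp : IsPGroup 2 M := fun u => ⟨1, Subtype.ext (by simpa using hM.2 u u.2)⟩
  have hEp : IsPGroup 2 E := fun u => ⟨1, Subtype.ext (by simpa using hA.2 u (hEA u.2))⟩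
  have ha2 : a * a = 1 := by rw [← pow_two]; exact hA.2 a haA
  have hxn : zpowers x ≤ normalizer (M : Set L) := zpowers_le.2 hxM
  have hcop : (Nat.card (zpowers x)).Coprime (Nat.card M) := by
    obtain ⟨n, hn⟩ := hMp.exists_card_eq
    rw [Nat.card_zpowers, hxr, hn]
    exact Nat.Coprime.pow_right n ((Nat.coprime_primes hr Nat.prime_two).2 hr2)
  set W := ⁅M, zpowers x⁆ with hW
  set Cx := M ⊓ centralizer ({x} : Set L) with hCx
  have hCxe : M ⊓ centralizer (zpowers x : Set L) = Cx := by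
    rw [hCx, zpowers_eq_closure, centralizer_closure]
  have hWM : W ≤ M := le_normalizer_iff_commutator_le_left.1 hxn
  have hdisj : Cx ⊓ W = ⊥ := hCxe ▸ Coprime.centralizer_inf_commutator_eq_bot hxn hcop
  have hsup : W ⊔ Cx = M := by
    have := hMp.isNilpotent
    exact hCxe ▸ Coprime.commutator_sup_centralizer hxn hcop (Or.inr inferInstance)
  have hW1 : W ≠ ⊥ := by
    intro h
    apply hxC
    rw [h, bot_sup_eq] at hsup
    exact mem_centralizer_iff.2 fun m hm => (mem_centralizer_singleton_iff.1 (mem_inf.1 (hsup.ge hm)).2)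
  -- normalisers
  have hnW : ∀ g ∈ normalizer (M : Set L), g * x * g⁻¹ ∈ zpowers x → g ∈ normalizer (zpowers x : Set L) →
      g ∈ normalizer (W : Set L) := by
    intro g hg _ hgx
    refine mem_normalizer_iff_map_conj_eq.mpr ?_
    show W.map (MulAut.conj g).toMonoidHom = W
    rw [hW, map_commutator, show M.map (MulAut.conj g).toMonoidHom = M from ?_,
      show (zpowers x).map (MulAut.conj g).toMonoidHom = zpowers x from ?_]
    · exact eq_of_le_of_card_ge (by rintro _ ⟨y, hy, rfl⟩; exact (Subgroup.mem_normalizer_iff.1 hgx y).1 hy)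
        (card_map_of_injective (MulAut.conj g).injective).ge
    · exact eq_of_le_of_card_ge (by rintro _ ⟨y, hy, rfl⟩; exact (Subgroup.mem_normalizer_iff.1 hg y).1 hy)
        (card_map_of_injective (MulAut.conj g).injective).ge
  have hxW : x ∈ normalizer (W : Set L) :=
    hnW x hxM (by rw [mul_inv_cancel_right]; exact mem_zpowers x) (le_normalizer (mem_zpowers x))
  have hEn : ∀ h ∈ E, h ∈ normalizer (W : Set L) := fun h hh => by
    refine hnW h (hAM (hEA hh)) (by rw [hEx h hh, mul_inv_cancel_right]; exact mem_zpowers x) ?_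
    exact centralizer_le_normalizer _ (mem_centralizer_iff.2 fun y hy => by
      obtain ⟨i, rfl⟩ := mem_zpowers_iff.1 hy
      exact ((show Commute h x from hEx h hh).zpow_right i).symm.eq)
  have hanz : a ∈ normalizer (zpowers x : Set L) := by
    refine Coprime.mem_normalizer_of_conj_map_le fun y hy => ?_
    obtain ⟨i, rfl⟩ := mem_zpowers_iff.1 hy
    rw [← conj_zpow, hax]
    exact zpow_mem (inv_mem (mem_zpowers x)) i
  have haW : a ∈ normalizer (W : Set L) :=
    hnW a (hAM haA) (by rw [hax]; exact inv_mem (mem_zpowers x)) hanz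
  have hEW : E ≤ normalizer (W : Set L) := fun h hh => hEn h hh
  have hWfix : Cx ⊓ W = ⊥ := hdisj
  obtain ⟨k, hk⟩ := exists_card hM hWM
  have hkr := orderOf_two_dvd (hk ▸ card_modEq (M := M) hWM hxr hxW hWfix)
  constructor
  · set W0 := W ⊓ centralizer (E : Set L) with hW0
    have hW0M : W0 ≤ M := inf_le_left.trans hWM
    have hW0fix : Cx ⊓ W0 = ⊥ := le_bot_iff.1 (hWfix ▸ inf_le_inf_left _ inf_le_left)
    have hne : W0 ≠ ⊥ := by
      let f : E →* MulAut W := Coprime.conjHom hEW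
      letI : MulAction E W := MulAction.compHom W f
      have hd : 2 ∣ Nat.card W := by
        rw [hk]
        rcases Nat.eq_zero_or_pos k with rfl | h0
        · exact absurd (card_eq_one.1 (by rw [hk, pow_zero])) hW1
        · exact dvd_pow_self 2 h0.ne'
      obtain ⟨w, hw, hne⟩ := hEp.exists_fixed_point_of_prime_dvd_card_of_fixed_point W hd
        (a := 1) (fun z => map_one (f z))
      intro h0
      have : (w : L) ∈ W0 := mem_inf.2 ⟨w.2, mem_centralizer_iff.2 fun h hh => by
        have h1 : h * (w : L) * h⁻¹ = w := congrArg Subtype.val (hw ⟨h, hh⟩)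
        exact mul_inv_eq_iff_eq_mul.1 h1⟩
      exact hne (Subtype.ext (mem_bot.1 (h0 ▸ this)).symm)
    have hnorm : ∀ g ∈ normalizer (W : Set L), g ∈ normalizer (E : Set L) →
        g ∈ normalizer (W0 : Set L) := fun g hg hgE => by
      refine Coprime.mem_normalizer_of_conj_map_le fun y hy => ?_
      obtain ⟨hyW, hyE⟩ := mem_inf.1 hy
      refine mem_inf.2 ⟨(Subgroup.mem_normalizer_iff.1 hg y).1 hyW, mem_centralizer_iff.2 fun h hh => ?_⟩
      have h2 := (Subgroup.mem_normalizer_iff.1 (inv_mem hgE) h).1 hh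
      have h3 : g⁻¹ * h * g⁻¹⁻¹ * y = y * (g⁻¹ * h * g⁻¹⁻¹) := mem_centralizer_iff.1 hyE _ h2
      calc h * (g * y * g⁻¹) = g * (g⁻¹ * h * g⁻¹⁻¹ * y) * g⁻¹ := by group
        _ = _ := by rw [h3]; group
    have hx0 : x ∈ normalizer (W0 : Set L) := hnorm x hxW
      (centralizer_le_normalizer _ (mem_centralizer_iff.2 fun h hh => hEx h hh))
    have ha0 : a ∈ normalizer (W0 : Set L) := hnorm a haW
      (centralizer_le_normalizer _ (mem_centralizer_iff.2 fun h hh => setLike_mul_comm (hEA hh) haA))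
    obtain ⟨hsq, -⟩ := half hM hW0M hr hr2 hxr ha2 hax hx0 ha0 hW0fix
    obtain ⟨j, hj⟩ := exists_card hM hW0M
    obtain ⟨d, hd⟩ := exists_card hM ((inf_le_left (b := centralizer ({a} : Set L))).trans hW0M)
    have hjd : j = d * 2 := Nat.pow_right_injective le_rfl (by
      show 2 ^ j = 2 ^ (d * 2)
      rw [← hj, ← hsq, hd, pow_mul])
    have hj0 : j ≠ 0 := fun h => hne (card_eq_one.1 (by rw [hj, h, pow_zero]))
    have hdvd := orderOf_two_dvd (hj ▸ card_modEq (M := M) hW0M hxr hx0 hW0fix)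
    refine ⟨d, le_trans (Nat.le_of_dvd (Nat.pos_of_ne_zero hj0) hdvd) (by omega), ?_⟩
    set P := M ⊓ centralizer (A : Set L)
    set Q := M ⊓ centralizer (E : Set L)
    have hPQ : P ≤ Q := inf_le_inf_left _ (centralizer_le hEA)
    have hW0Q : W0 ≤ Q := inf_le_inf_right _ hWM
    have h1 : P.relIndex W0 ≤ P.relIndex Q := relIndex_le_of_le_right hW0Q index_ne_zero_of_finite
    have h2 : 2 ^ d ≤ P.relIndex W0 := by
      rw [← inf_relIndex_right]
      have e := card_mul_relIndex (inf_le_right : P ⊓ W0 ≤ W0)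
      have hle : Nat.card ↥(P ⊓ W0) ≤ 2 ^ d := hd ▸ card_le_of_le (fun y hy => mem_inf.2
        ⟨(mem_inf.1 hy).2, mem_centralizer_singleton_iff.2
          (mem_centralizer_iff.1 (mem_inf.1 (mem_inf.1 hy).1).2 a haA).symm⟩)
      rw [hj, hjd, pow_mul, pow_two] at e
      by_contra hlt
      push Not at hlt
      have := Nat.mul_lt_mul_of_le_of_lt hle hlt (by positivity)
      omega
    rw [← card_mul_relIndex hPQ, mul_comm]
    exact Nat.mul_le_mul_left _ (h2.trans h1)
  · set N1 := ⁅M, E⁆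
    set W1 := ⁅W, E⁆ with hW1def
    have hW1W : W1 ≤ W := le_normalizer_iff_commutator_le_left.1 hEW
    have hW1M : W1 ≤ M := hW1W.trans hWM
    have hW1fix : Cx ⊓ W1 = ⊥ := le_bot_iff.1 (hWfix ▸ inf_le_inf_left _ hW1W)
    have hlt : W1 < W := Coprime.commutator_lt_of_isPGroup hEp (hMp.to_le hWM) hEW hW1
    have hnorm : ∀ g ∈ normalizer (W : Set L), g ∈ centralizer (E : Set L) →
        g ∈ normalizer (W1 : Set L) := fun g hg hgE => by
      refine mem_normalizer_iff_map_conj_eq.mpr ?_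
      show W1.map (MulAut.conj g).toMonoidHom = W1
      rw [hW1def, map_commutator,
        show W.map (MulAut.conj g).toMonoidHom = W from eq_of_le_of_card_ge
          (by rintro _ ⟨y, hy, rfl⟩; exact (Subgroup.mem_normalizer_iff.1 hg y).1 hy)
          (card_map_of_injective (MulAut.conj g).injective).ge,
        show E.map (MulAut.conj g).toMonoidHom = E from eq_of_le_of_card_ge
          (by
            rintro _ ⟨y, hy, rfl⟩
            simp only [MulEquiv.coe_toMonoidHom, MulAut.conj_apply]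
            rw [← mem_centralizer_iff.1 hgE y hy, mul_inv_cancel_right]
            exact hy)
          (card_map_of_injective (MulAut.conj g).injective).ge]
    have hx1 : x ∈ normalizer (W1 : Set L) := hnorm x hxW (mem_centralizer_iff.2 fun h hh => hEx h hh)
    have ha1 : a ∈ normalizer (W1 : Set L) :=
      hnorm a haW (mem_centralizer_iff.2 fun h hh => setLike_mul_comm (hEA hh) haA)
    obtain ⟨hsqW, hCle⟩ := half hM hWM hr hr2 hxr ha2 hax hxW haW hWfix
    obtain ⟨hsq1, -⟩ := half hM hW1M hr hr2 hxr ha2 hax hx1 ha1 hW1fix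
    obtain ⟨j, hj⟩ := exists_card hM hW1M
    have hjr := orderOf_two_dvd (hj ▸ card_modEq (M := M) hW1M hxr hx1 hW1fix)
    obtain ⟨c, hc⟩ := exists_card hM ((inf_le_left (b := centralizer ({a} : Set L))).trans hWM)
    obtain ⟨c1, hc1⟩ := exists_card hM ((inf_le_left (b := centralizer ({a} : Set L))).trans hW1M)
    have hkc : k = c * 2 := Nat.pow_right_injective le_rfl (by
      show 2 ^ k = 2 ^ (c * 2); rw [← hk, ← hsqW, hc, pow_mul])
    have hjc : j = c1 * 2 := Nat.pow_right_injective le_rfl (by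
      show 2 ^ j = 2 ^ (c1 * 2); rw [← hj, ← hsq1, hc1, pow_mul])
    have hjk : j < k := by
      rw [← Nat.pow_lt_pow_iff_right (a := 2) one_lt_two, ← hj, ← hk]
      rcases lt_or_ge (Nat.card W1) (Nat.card W) with h | h
      · exact h
      · exact absurd (eq_of_le_of_card_ge hW1W h) hlt.ne
    refine ⟨c - c1, ?_, ?_⟩
    · have := Nat.le_of_dvd (by omega) (Nat.dvd_sub hkr hjr)
      omega
    set N2 := ⁅M, A⁆
    set C := W ⊓ centralizer ({a} : Set L)
    have hN : N1 ≤ N2 := commutator_mono le_rfl hEA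
    have hC2 : C ≤ N2 := hCle.trans (commutator_mono hWM (zpowers_le.2 haA))
    have hN1 : N1 ≤ W1 ⊔ Cx := by
      refine commutator_le.2 fun m hm e he => ?_
      obtain ⟨w, hw, y, hy, rfl⟩ : ∃ w ∈ W, ∃ y ∈ Cx, w * y = m :=
        exists_mul (M := M) hWM inf_le_left (hsup.ge hm)
      have h1 : ⁅w, e⁆ ∈ W1 := commutator_mem_commutator hw he
      have hyM := (mem_inf.1 hy).1
      have he' : e * y * e⁻¹ ∈ Cx := by
        refine mem_inf.2 ⟨(Subgroup.mem_normalizer_iff.1 (hAM (hEA he)) y).1 hyM,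
          mem_centralizer_singleton_iff.2 ?_⟩
        have h2 : Commute x y := (mem_centralizer_singleton_iff.1 (mem_inf.1 hy).2).symm
        have h3 : Commute x e := (hEx e he).symm
        exact ((h3.mul_right h2).mul_right h3.inv_right).symm.eq
      have h2 : ⁅y, e⁆ ∈ Cx := by
        rw [commutatorElement_def,
          show y * e * y⁻¹ * e⁻¹ = y * (e * y * e⁻¹)⁻¹ by group]
        exact mul_mem hy (inv_mem he')
      have h4 : ⁅w * y, e⁆ = w * ⁅y, e⁆ * w⁻¹ * ⁅w, e⁆ := by simp only [commutatorElement_def]; group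
      rw [h4, setLike_mul_comm (hWM hw) (mem_inf.1 h2).1, mul_inv_cancel_right]
      exact mul_mem (mem_sup_right h2) (mem_sup_left h1)
    have hint : N1 ⊓ C ≤ W1 ⊓ centralizer ({a} : Set L) := fun z hz => by
      obtain ⟨hz1, hz2⟩ := mem_inf.1 hz
      refine mem_inf.2 ⟨?_, (mem_inf.1 hz2).2⟩
      obtain ⟨w, hw, y, hy, rfl⟩ : ∃ w ∈ W1, ∃ y ∈ Cx, w * y = z :=
        exists_mul (M := M) hW1M inf_le_left (hN1 hz1)
      have : y ∈ Cx ⊓ W := mem_inf.2 ⟨hy,
        ((W.mul_mem_cancel_left (hW1W hw)).1 (mem_inf.1 hz2).1)⟩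
      rw [hWfix] at this
      rw [mem_bot.1 this, mul_one]
      exact hw
    have h1 : N1.relIndex C ≤ N1.relIndex N2 := relIndex_le_of_le_right hC2 index_ne_zero_of_finite
    have h2 : 2 ^ (c - c1) ≤ N1.relIndex C := by
      rw [← inf_relIndex_right]
      have e := card_mul_relIndex (inf_le_right : N1 ⊓ C ≤ C)
      have hle : Nat.card ↥(N1 ⊓ C) ≤ 2 ^ c1 := hc1 ▸ card_le_of_le hint
      rw [hc, show (2 : ℕ) ^ c = 2 ^ c1 * 2 ^ (c - c1) by rw [← pow_add]; congr 1; omega] at e
      by_contra h3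
      push Not at h3
      have := Nat.mul_lt_mul_of_le_of_lt hle h3 (by positivity)
      omega
    rw [← card_mul_relIndex hN, mul_comm]
    exact Nat.mul_le_mul_left _ (h2.trans h1)

end CfsgLib.LocalEven.SFreeOffender
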