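import Cfsg.Prelude.Def_LocalEven
import Cfsg.Agent.Lib.Components.GenFitting
import Cfsg.Agent.Lib.Coprime.Generation
import Cfsg.Agent.Lib.LocalEven.InvolvesDihedral
import Cfsg.Agent.S2759
import Mathlib.GroupTheory.Nilpotent

/-!
Inverted elements of prime order in an `S₃`-free group with known components, relative to an elementary
abelian 2-subgroup.
-/

set_option autoImplicit false
set_option linter.style.haveILetI false
set_option linter.unusedSectionVars false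

namespace CfsgLib.LocalEven.SFreeOffender

open Subgroup CfsgLib.Solvable CfsgLib.Components
open scoped Pointwise
open scoped commutatorElement

universe u v

variable {G : Type u} [Group G]

/-- The index of `E` in `A` is small enough for an element of order `r`. -/
def SmallIndex (i r : ℕ) : Prop := i = 2 ∨ i ^ 4 ≤ 2 ^ orderOf (2 : ZMod r)

/-- A subgroup `E` of `A`, with an element of `A` inverting an element of prime order centralised by `E`. -/
def HasUnit (A : Subgroup G) : Prop :=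
  ∃ (E : Subgroup G) (a x : G) (r : ℕ), E ≤ A ∧ a ∈ A ∧ a ∉ E ∧ r.Prime ∧ 5 ≤ r ∧ orderOf x = r ∧
    a * x * a⁻¹ = x⁻¹ ∧ (∀ h ∈ E, h * x = x * h) ∧ SmallIndex (E.relIndex A) r

/-- A simple group providing units for its elementary abelian 2-groups of automorphisms. -/
def GoodSimple (X : Type v) [Group X] : Prop :=
  (∃ r, r.Prime ∧ 5 ≤ r ∧ r ∣ Nat.card X) ∧
  ∀ B : Subgroup (MulAut X), Cfsg.IsElementaryAbelian 2 B → B ≠ ⊥ →
    (∀ b ∈ B, ∀ y : X, orderOf y = 3 → b y ≠ y⁻¹) →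
    ∃ (B' : Subgroup (MulAut X)) (b : MulAut X) (x : X) (r : ℕ), B' ≤ B ∧ b ∈ B ∧ b ∉ B' ∧ r.Prime ∧ 5 ≤ r ∧
      orderOf x = r ∧ b x = x⁻¹ ∧ (∀ h ∈ B', h x = x) ∧ SmallIndex (B'.relIndex B) r

/-- Being good passes along isomorphisms. -/
theorem GoodSimple.of_mulEquiv {X : Type v} {Y : Type u} [Group X] [Group Y] (e : X ≃* Y) (h : GoodSimple X) :
    GoodSimple Y := by
  obtain ⟨⟨r, hr, h5, hd⟩, hB⟩ := h
  refine ⟨⟨r, hr, h5, Nat.card_congr e.toEquiv ▸ hd⟩, fun B hBe hB1 h3 => ?_⟩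
  set f : MulAut Y ≃* MulAut X := MulAut.congr e.symm with hf
  have hfa : ∀ (α : MulAut Y) (x : X), f α x = e.symm (α (e x)) := fun α x => rfl
  obtain ⟨B', b, x, r, hB', hb, hbn, hr, h5, hx, hbx, hfix, hi⟩ := hB (B.map f.toMonoidHom)
    ⟨by
      haveI := hBe.1
      exact ⟨⟨fun p q => Subtype.ext (by
        obtain ⟨p', hp, hp'⟩ := p.2
        obtain ⟨q', hq, hq'⟩ := q.2
        simp only [Subgroup.coe_mul, ← hp', ← hq', ← map_mul, setLike_mul_comm hp hq])⟩⟩,
     by rintro _ ⟨p, hp, rfl⟩; rw [← map_pow, hBe.2 p hp, map_one]⟩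
    (fun h0 => hB1 ((map_eq_bot_iff_of_injective _ f.injective).1 h0))
    (by
      rintro _ ⟨p, hp, rfl⟩ y hy heq
      refine h3 p hp (e y) (by rw [MulEquiv.orderOf_eq, hy]) ?_
      have h' := congrArg e (show e.symm (p (e y)) = y⁻¹ from heq)
      simpa using h')
  obtain ⟨b0, hb0, rfl⟩ := hb
  refine ⟨B'.comap f.toMonoidHom, b0, e x, r, fun p hp => ?_, hb0, hbn, hr, h5,
    by rw [MulEquiv.orderOf_eq, hx], ?_, fun p hp => ?_, ?_⟩
  · obtain ⟨q, hq, hq'⟩ := hB' (show f p ∈ B' from hp)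
    rwa [← f.injective hq']
  · have h' := congrArg e (show e.symm (b0 (e x)) = x⁻¹ from hbx)
    simpa using h'
  · have h' := congrArg e (show e.symm (p (e x)) = x from hfix _ hp)
    simpa using h'
  · rwa [relIndex_comap]

variable [Finite G]

theorem odd_card_fitting (h2 : Cfsg.pCore 2 G = ⊥) : Odd (Nat.card (Cfsg.fittingSubgroup G)) := by
  haveI : Fact (Nat.Prime 2) := ⟨Nat.prime_two⟩
  by_contra h
  have hd : 2 ∣ Nat.card (Cfsg.fittingSubgroup G) := even_iff_two_dvd.1 (Nat.not_odd_iff_even.1 h)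
  obtain ⟨P⟩ : Nonempty (Sylow 2 (Cfsg.fittingSubgroup G)) := inferInstance
  have hPn : (P : Subgroup (Cfsg.fittingSubgroup G)).Normal :=
    inferInstance
  haveI := P.characteristic_of_normal hPn
  haveI : ((P : Subgroup (Cfsg.fittingSubgroup G)).map (Cfsg.fittingSubgroup G).subtype).Normal :=
    inferInstance
  have h1 := Cores.le_pCore (N := (P : Subgroup _).map (Cfsg.fittingSubgroup G).subtype)
    (P.isPGroup'.map _)
  rw [h2, le_bot_iff, map_eq_bot_iff_of_injective _ (subtype_injective _)] at h1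
  exact P.ne_bot_of_dvd_card hd h1

theorem not_inverted_three (hS : ¬ Cfsg.Involves (Equiv.Perm (Fin 3)) G) {a x : G} (ha : a * a = 1)
    (hx : ∃ k, orderOf x = 3 ^ k) (hax : a * x * a⁻¹ = x⁻¹) : x = 1 := by
  by_contra hx1
  haveI : Fact (Nat.Prime 3) := ⟨Nat.prime_three⟩
  haveI : Fact (Nat.Prime 2) := ⟨Nat.prime_two⟩
  obtain ⟨k, -, hk⟩ := (Nat.dvd_prime_pow Nat.prime_two).1
    (orderOf_dvd_of_pow_eq_one (show a ^ 2 ^ 1 = 1 by rw [pow_one, pow_two, ha]))
  obtain ⟨e⟩ := Cfsg.Agent.S2759.perm_three_equiv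
  exact hS (Cfsg.Agent.S2759.involves_congr e.symm
    (LocalEven.InvolvesDihedral.involves_of_inverted (by norm_num) ⟨k, hk⟩ hx hx1 hax))

/-- From an element of `r`-power order to one of order `r`. -/
theorem hasUnit_of_pow {A E : Subgroup G} {a x : G} {r : ℕ} (hEA : E ≤ A) (ha : a ∈ A) (haE : a ∉ E)
    (hr : r.Prime) (hr5 : 5 ≤ r) (hxr : ∃ k, orderOf x = r ^ k) (hx1 : x ≠ 1) (hax : a * x * a⁻¹ = x⁻¹)
    (hE : ∀ h ∈ E, h * x = x * h) (hi : SmallIndex (E.relIndex A) r) : HasUnit A := by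
  obtain ⟨k, hk⟩ := hxr
  obtain ⟨j, rfl⟩ : ∃ j, k = j + 1 := Nat.exists_eq_succ_of_ne_zero fun h => hx1
    (orderOf_eq_one_iff.1 (by rw [hk, h, pow_zero]))
  refine ⟨E, a, x ^ r ^ j, r, hEA, ha, haE, hr, hr5, ?_, by rw [← conj_pow, hax, inv_pow],
    fun h hh => ((show Commute h x from hE h hh).pow_right _).eq, hi⟩
  rw [orderOf_pow' x (pow_ne_zero _ hr.ne_zero), hk, Nat.gcd_eq_right (pow_dvd_pow r (Nat.le_succ j)),
    Nat.pow_div (Nat.le_succ j) hr.pos, show j + 1 - j = 1 by omega, pow_one]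

/-- An element of a prime power part with the same image. -/
theorem exists_ppart {H : Type*} [Group H] (π : G →* H) (w : G) {r : ℕ} (hr : r.Prime)
    (hw : orderOf (π w) = r) : ∃ j : ℕ, (∃ k, orderOf (w ^ j) = r ^ k) ∧ π (w ^ j) ≠ 1 := by
  obtain ⟨k, m, hm, hk⟩ : ∃ k m : ℕ, ¬ r ∣ m ∧ orderOf w = r ^ k * m :=
    Nat.exists_eq_pow_mul_and_not_dvd (orderOf_pos w).ne' r hr.ne_one
  refine ⟨m, ?_, fun h => hm (hw ▸ orderOf_dvd_of_pow_eq_one (by rw [← map_pow, h]))⟩
  have h1 : (w ^ m) ^ r ^ k = 1 := by rw [← pow_mul, mul_comm, ← hk, pow_orderOf_eq_one]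
  obtain ⟨j, -, hj⟩ := (Nat.dvd_prime_pow hr).1 (orderOf_dvd_of_pow_eq_one h1)
  exact ⟨j, hj⟩

/-- A complement in an elementary abelian 2-group. -/
theorem exists_complement {A B : Subgroup G} (hA : Cfsg.IsElementaryAbelian 2 A) (hB : B ≤ A) :
    ∃ D, D ≤ A ∧ D ⊓ B = ⊥ ∧ D ⊔ B = A := by
  classical
  haveI := hA.1
  obtain ⟨D, hD⟩ := (Set.toFinite {D : Subgroup G | D ≤ A ∧ D ⊓ B = ⊥}).exists_maximal ⟨⊥, bot_le, bot_inf_eq B⟩
  refine ⟨D, hD.prop.1, hD.prop.2, le_antisymm (sup_le hD.prop.1 hB) fun a ha => ?_⟩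
  by_contra han
  have hle : D ⊔ zpowers a ≤ A := sup_le hD.prop.1 (zpowers_le.2 ha)
  have hdisj : (D ⊔ zpowers a) ⊓ B = ⊥ := by
    refine (Subgroup.eq_bot_iff_forall _).2 fun z hz => ?_
    obtain ⟨hz1, hz2⟩ := mem_inf.1 hz
    have hn : D ≤ normalizer (zpowers a : Set G) := fun d hd => centralizer_le_normalizer _
      (mem_centralizer_iff.2 fun q hq => setLike_mul_comm (zpowers_le.2 ha hq) (hD.prop.1 hd))
    obtain ⟨d, hd, q, hq, hdq⟩ : z ∈ (D : Set G) * (zpowers a : Set G) := by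
      rw [← coe_mul_of_left_le_normalizer_right D (zpowers a) hn]; exact hz1
    obtain ⟨i, rfl⟩ := mem_zpowers_iff.1 hq
    simp only at hdq
    rcases Int.even_or_odd i with ⟨c, rfl⟩ | ⟨c, rfl⟩
    · have e : a ^ (c + c) = 1 := by
        rw [← two_mul, _root_.zpow_mul, show a ^ (2 : ℤ) = 1 by exact_mod_cast hA.2 a ha, _root_.one_zpow]
      rw [e, mul_one] at hdq
      subst hdq
      exact mem_bot.1 (hD.prop.2 ▸ mem_inf.2 ⟨hd, hz2⟩)
    · have e : a ^ (2 * c + 1) = a := by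
        rw [_root_.zpow_add, _root_.zpow_mul, show a ^ (2 : ℤ) = 1 by exact_mod_cast hA.2 a ha,
          _root_.one_zpow, one_mul, zpow_one]
      rw [e] at hdq
      refine absurd ?_ han
      rw [show a = d⁻¹ * z by rw [← hdq, inv_mul_cancel_left]]
      exact mul_mem (mem_sup_left (inv_mem hd)) (mem_sup_right hz2)
  exact han (mem_sup_left (hD.le_of_ge ⟨hle, hdisj⟩ le_sup_left (mem_sup_right (mem_zpowers a))))

/-- A unit coming from the Fitting subgroup. -/
theorem hasUnit_of_fitting (h2 : Cfsg.pCore 2 G = ⊥) (hS : ¬ Cfsg.Involves (Equiv.Perm (Fin 3)) G)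
    {A : Subgroup G} (hA : Cfsg.IsElementaryAbelian 2 A)
    (hne : ¬ A ≤ centralizer (Cfsg.fittingSubgroup G : Set G)) : HasUnit A := by
  haveI : Fact (Nat.Prime 2) := ⟨Nat.prime_two⟩
  haveI := hA.1
  set K := Cfsg.fittingSubgroup G
  have hAK : A ≤ normalizer (K : Set G) := by rw [normalizer_eq_top]; exact le_top
  have hAp : IsPGroup 2 A := fun u => ⟨1, Subtype.ext (by simpa using hA.2 u u.2)⟩
  have hKodd := odd_card_fitting h2
  have hcop : (Nat.card A).Coprime (Nat.card K) := by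
    obtain ⟨n, hn⟩ := IsPGroup.iff_card.mp hAp
    rw [hn]; exact ((Nat.coprime_two_left.2 hKodd).pow_left n)
  have hgen := Coprime.iSup_centralizer_of_cyclic_quotient hAK hcop
  obtain ⟨H, ⟨hHA, a, ha, hsup⟩, f, hfK, hfA⟩ : ∃ H : Subgroup G, (H ≤ A ∧ ∃ a ∈ A, H ⊔ zpowers a = A) ∧
      ∃ f ∈ K ⊓ centralizer (H : Set G), f ∉ centralizer (A : Set G) := by
    by_contra hcon
    push Not at hcon
    exact hne (le_centralizer_iff.mp (hgen ▸ iSup₂_le fun H hH f hf => hcon H hH f hf))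
  obtain ⟨hfK, hfH⟩ := mem_inf.mp hfK
  have hnc : f * a ≠ a * f := fun e => hfA (by
    have hle : A ≤ centralizer {f} := by
      rw [← hsup]
      exact sup_le (fun h hh => mem_centralizer_singleton_iff.mpr (mem_centralizer_iff.mp hfH h hh))
        (zpowers_le.mpr (mem_centralizer_singleton_iff.mpr e.symm))
    exact mem_centralizer_iff.mpr fun b hb => mem_centralizer_singleton_iff.mp (hle hb))
  have haH : a ∉ H := fun h => hnc (mem_centralizer_iff.mp hfH a h).symm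
  have ha2 : a * a = 1 := by rw [← pow_two]; exact hA.2 a ha
  have hai : a⁻¹ = a := inv_eq_of_mul_eq_one_right ha2
  set x := f * a * f⁻¹ * a⁻¹ with hx
  have hx1 : x ≠ 1 := fun e => hnc (by
    rw [hx, mul_inv_eq_one, mul_inv_eq_iff_eq_mul] at e
    exact e)
  have hxK : x ∈ K := by
    rw [hx, show f * a * f⁻¹ * a⁻¹ = f * (a * f⁻¹ * a⁻¹) by group]
    exact mul_mem hfK ((Cores.fittingSubgroup_normal (G := G)).conj_mem _ (inv_mem hfK) a)
  have hinv : a * x * a⁻¹ = x⁻¹ := by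
    calc a * x * a⁻¹ = a * f * a * f⁻¹ * (a⁻¹ * a⁻¹) := by rw [hx]; group
      _ = a * f * a⁻¹ * f⁻¹ := by rw [hai, ha2, mul_one]
      _ = x⁻¹ := by rw [hx]; group
  have hcomm : ∀ h ∈ H, h * x = x * h := by
    intro h hh
    have h1 : Commute h f := mem_centralizer_iff.mp hfH h hh
    have h2 : Commute h a := setLike_mul_comm (hHA hh) ha
    exact (((h1.mul_right h2).mul_right h1.inv_right).mul_right h2.inv_right).eq
  set n := orderOf x with hn
  obtain ⟨r, hr, hrn⟩ := Nat.exists_prime_and_dvd (fun h1 => hx1 (orderOf_eq_one_iff.mp h1) : n ≠ 1)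
  set y := x ^ (n / r)
  have hy : orderOf y = r := by
    rw [orderOf_pow' x (Nat.div_pos (Nat.le_of_dvd (orderOf_pos x) hrn) hr.pos).ne', ← hn,
      Nat.gcd_eq_right (Nat.div_dvd_of_dvd hrn), Nat.div_div_self hrn (orderOf_pos x).ne']
  have hy1 : y ≠ 1 := fun h => hr.ne_one (by rw [← hy, h, orderOf_one])
  have hay : a * y * a⁻¹ = y⁻¹ := by rw [← conj_pow, hinv, inv_pow]
  have hr2 : r ≠ 2 := by
    rintro rfl
    have h1 : n ∣ Nat.card K := orderOf_dvd_natCard K hxK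
    exact Nat.not_even_iff_odd.2 hKodd (even_iff_two_dvd.2 (hrn.trans h1))
  have hr3 : r ≠ 3 := by
    rintro rfl
    exact hy1 (not_inverted_three hS ha2 ⟨1, by rw [hy, pow_one]⟩ hay)
  have hr5 : 5 ≤ r := by
    have := hr.two_le
    by_contra h
    interval_cases r <;> simp_all (config := { decide := true })
  refine ⟨H, a, y, r, hHA, ha, haH, hr, hr5, hy, hay,
    fun h hh => ((show Commute h x from hcomm h hh).pow_right _).eq, Or.inl ?_⟩
  rw [Subgroup.relIndex, index_eq_two_iff]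
  refine ⟨⟨a, ha⟩, fun b => ?_⟩
  have hn : H ≤ normalizer (zpowers a : Set G) := fun q hq => centralizer_le_normalizer _
    (mem_centralizer_iff.2 fun z hz => setLike_mul_comm (zpowers_le.2 ha hz) (hHA hq))
  obtain ⟨h, hh, z, hz, hhz⟩ : (b : G) ∈ (H : Set G) * (zpowers a : Set G) := by
    rw [← coe_mul_of_left_le_normalizer_right H (zpowers a) hn, hsup]; exact b.2
  simp only at hhz
  obtain ⟨i, rfl⟩ := mem_zpowers_iff.1 hz
  simp only [mem_subgroupOf, Subgroup.coe_mul, ← hhz]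
  rcases Int.even_or_odd i with ⟨c, rfl⟩ | ⟨c, rfl⟩
  · rw [← two_mul, _root_.zpow_mul, zpow_two, ha2, _root_.one_zpow, mul_one]
    exact Or.inr ⟨hh, fun h1 => haH ((H.mul_mem_cancel_left hh).1 h1)⟩
  · rw [_root_.zpow_add, _root_.zpow_mul, zpow_two, ha2, _root_.one_zpow, one_mul, zpow_one, mul_assoc, ha2,
      mul_one]
    exact Or.inl ⟨hh, fun h1 => haH ((H.mul_mem_cancel_left hh).1 h1)⟩

end CfsgLib.LocalEven.SFreeOffender
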